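import Cfsg.Agent.ExtCert.Collect
import Cfsg.Agent.SchurCert.Cert
import Cfsg.Agent.Lib.Gaschutz
import Mathlib.Data.Nat.Prime.Basic

set_option autoImplicit false

/-!
A certificate for the extensions of a group by a module over the field with two elements: the
tails over a Sylow subgroup reduce, after a change of lifts, to one fixed cocycle times one
linear form of the unknowns.
-/

namespace Cfsg.Agent.ExtCert

open Cfsg.Agent.Golay (xorSel xorSel_xor)
open Cfsg.Agent.SchurCert (PC evalW evalW_cons evalW_nil evalW_append Code SatPC initGroup)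

/-- An element conjugates the words `A` to the words `B`; each relation holds for both. -/
structure Fus where
  /-- The number of the conjugating element. -/
  g : ℕ
  /-- The words conjugated. -/
  A : List (List ℕ)
  /-- The conjugates. -/
  B : List (List ℕ)
  /-- The relations. -/
  rels : List (List ℕ × List ℕ)

/-- The data of a certificate. -/
structure Data where
  /-- The presentation with the module. -/
  Q : Pres
  /-- The codes of the generators. -/
  gens : List ℕ
  /-- The codes of the fusing elements. -/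
  gs : List ℕ
  /-- The matrices of the fusing elements. -/
  gmats : List (List ℕ)
  /-- The triples collected in two ways. -/
  assoc : List (ℕ × ℕ × ℕ)
  /-- The fusions. -/
  fus : List Fus
  /-- A bound for the number of words in a fusion. -/
  K : ℕ
  /-- The changes of the lifts. -/
  beta : List (List ℕ)
  /-- The form left over. -/
  ell : ℕ
  /-- The cocycle multiplied by it. -/
  e : List ℕ
  /-- For each coordinate of each relation, the selection of equations. -/
  combo : List (List ℕ)

namespace Data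

variable (D : Data) (mul : ℕ → ℕ → ℕ) (one : ℕ)

/-- The number of relations. -/
def nrel : ℕ := D.Q.P.n * (D.Q.P.n + 1) / 2

/-- The group part, as a certificate of the other kind. -/
def groupPart : SchurCert.Cert :=
  { P := D.Q.P, gens := D.gens, gs := D.gs, rows := [], beta := [], combo := [] }

/-- The fusion at a place. -/
def fusAt (r : ℕ) : Fus := D.fus.getD r ⟨0, [], [], []⟩

/-- The first block of unknowns of a fusion. -/
def base (r : ℕ) : ℕ := D.nrel + D.K * r

/-- The segments of the conjugated side. -/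
def segsA (A : List (List ℕ)) (r : List ℕ) : List (List ℕ × List ℕ) :=
  r.map fun j => ([], A.getD j [])

/-- The segments of the other side. -/
def segsB (m b : ℕ) (B : List (List ℕ)) (r : List ℕ) : List (List ℕ × List ℕ) :=
  r.map fun j => (unit m (b + j), B.getD j [])

/-- The equation of a triple. -/
def assocEq (t : ℕ × ℕ × ℕ) : List ℕ :=
  let l := D.Q.collect [([], [t.1, t.2.1, t.2.2])]
  let r := D.Q.collect [([], [t.2.1, t.2.2])]
  let q := D.Q.collect [([], t.1 :: wordB D.Q.P.n r.2)]
  xorV l.1 (xorV (actF D.Q.m (D.Q.mat t.1) r.1) q.1)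

/-- A triple is a valid equation. -/
def assocOK (t : ℕ × ℕ × ℕ) : Bool :=
  let l := D.Q.collect [([], [t.1, t.2.1, t.2.2])]
  let r := D.Q.collect [([], [t.2.1, t.2.2])]
  let q := D.Q.collect [([], t.1 :: wordB D.Q.P.n r.2)]
  SchurCert.Cert.below D.Q.P.n [t.1, t.2.1, t.2.2] && decide (l.2 = q.2) &&
    Nat.ble (D.assocEq t).length D.Q.m

/-- The equation of a relation of a fusion. -/
def relEq (r : ℕ) (p : List ℕ × List ℕ) : List ℕ :=
  let f := D.fusAt r
  let M := D.gmats.getD f.g []
  xorV (xorV (actF D.Q.m M (D.Q.collect (segsA f.A p.1)).1)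
      (D.Q.collect (segsB D.Q.m (D.base r) f.B p.1)).1)
    (xorV (actF D.Q.m M (D.Q.collect (segsA f.A p.2)).1)
      (D.Q.collect (segsB D.Q.m (D.base r) f.B p.2)).1)

/-- A relation of a fusion is a valid equation. -/
def relOK (r : ℕ) (p : List ℕ × List ℕ) : Bool :=
  let f := D.fusAt r
  SchurCert.Cert.below f.A.length p.1 && SchurCert.Cert.below f.A.length p.2 &&
    decide ((D.Q.collect (segsA f.A p.1)).2 = (D.Q.collect (segsA f.A p.2)).2) &&
    decide ((D.Q.collect (segsB D.Q.m (D.base r) f.B p.1)).2 =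
      (D.Q.collect (segsB D.Q.m (D.base r) f.B p.2)).2) &&
    Nat.ble (D.relEq r p).length D.Q.m

/-- A fusion is valid. -/
def fusOK (r : ℕ) : Bool :=
  let f := D.fusAt r
  Nat.ble f.A.length D.K && f.A.all (SchurCert.Cert.below D.Q.P.n) &&
    f.B.all (SchurCert.Cert.below D.Q.P.n) &&
    (D.gmats.getD f.g []).all (fun x => Nat.blt x (2 ^ D.Q.m)) &&
    ((List.range f.A.length).all fun j =>
      Nat.beq (mul (D.gs.getD f.g one) (D.groupPart.img mul one (f.A.getD j [])))
        (mul (D.groupPart.img mul one (f.B.getD j [])) (D.gs.getD f.g one))) &&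
    f.rels.all (D.relOK r)

/-- All equations. -/
def eqVecs : List (List ℕ) :=
  D.assoc.map D.assocEq ++
    (List.range D.fus.length).flatMap fun r => (D.fusAt r).rels.map (D.relEq r)

/-- All equations, coordinate by coordinate. -/
def eqs : List ℕ := D.eqVecs.flatMap fun F => (List.range D.Q.m).map fun i => F.getD i 0

/-- The change of lift of a generator. -/
def bet (i : ℕ) : List ℕ := D.beta.getD i []

/-- The change along a word. -/
def shiftW : List ℕ → List ℕ
  | [] => []
  | i :: W => xorV (D.bet i) (actF D.Q.m (D.Q.mat i) (shiftW W))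

/-- The changed tail of a power relation. -/
def resP (j : ℕ) : List ℕ :=
  xorV (xorV (D.bet j) (actF D.Q.m (D.Q.mat j) (D.bet j)))
    (xorV (unit D.Q.m (PC.pVar j)) (D.shiftW (D.Q.P.powWord j)))

/-- The changed tail of a conjugation relation. -/
def resC (j i : ℕ) : List ℕ :=
  xorV (xorV (D.bet j) (actF D.Q.m (D.Q.mat j) (D.bet i)))
    (xorV (unit D.Q.m (PC.cVar j i)) (D.shiftW (D.Q.P.cjWord j i ++ [j])))

/-- A changed tail is the cocycle times the form, modulo the equations. -/
def tailOK (E : List ℕ) (var : ℕ) (R : List ℕ) : Bool :=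
  Nat.ble R.length D.Q.m && Nat.blt (D.e.getD var 0) (2 ^ D.Q.m) &&
    (List.range D.Q.m).all fun i =>
      Nat.beq (R.getD i 0 ^^^ (bif (D.e.getD var 0).testBit i then D.ell else 0))
        (xorSel E ((D.combo.getD var []).getD i 0))

/-- The linear part of the check. -/
def linOK : Bool :=
  let E := D.eqs
  (List.range D.Q.P.n).all fun j =>
    D.tailOK E (PC.pVar j) (D.resP j) &&
      (List.range j).all fun i => D.tailOK E (PC.cVar j i) (D.resC j i)

/-- The part of the check about the equations. -/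
def rowsOK : Bool :=
  D.assoc.all D.assocOK && (List.range D.fus.length).all (D.fusOK mul one)

/-- The whole check. -/
def check : Bool :=
  D.Q.ok && D.groupPart.groupOK mul one && D.rowsOK mul one && D.linOK

end Data

variable {G : Type*} [Group G] (C : Code G)

/-- An extension of `G` by the module: the map `z` identifies the vectors with the kernel. -/
structure Ext (D : Data) (gen gsE : ℕ → G) (Γ : Type*) [Group Γ] where
  /-- The projection. -/
  σ : Γ →* G
  surj : Function.Surjective σ
  /-- The map of the module. -/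
  z : ℕ → Γ
  z_xor : ∀ a b, z (a ^^^ b) = z a * z b
  z_ker : ∀ a, σ (z a) = 1
  z_inj : ∀ a < 2 ^ D.Q.m, z a = 1 → a = 0
  z_surj : ∀ x, σ x = 1 → ∃ a < 2 ^ D.Q.m, z a = x
  act_gen : ∀ k < D.Q.P.n, ∀ x, σ x = gen k →
    ∀ a, x * z a = z (xorSel (D.Q.mat k) a) * x
  act_gs : ∀ r < D.fus.length, ∀ x, σ x = gsE (D.fusAt r).g →
    ∀ a, x * z a = z (xorSel (D.gmats.getD (D.fusAt r).g []) a) * x

/-- Some lifts satisfy the relations up to zero or the fixed cocycle. -/
theorem Ext.exists_lift {D : Data} {gen gsE : ℕ → G} {Γ : Type*} [Group Γ]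
    (X : Ext D gen gsE Γ)
    (hgen : ∀ i < D.Q.P.n, C.enc (gen i) = D.gens.getD i C.one)
    (hgs : ∀ i, C.enc (gsE i) = D.gs.getD i C.one)
    (hp : D.Q.P.p = 2) [Finite G]
    (hcheck : D.check C.mul C.one = true) :
    ∃ (c : Bool) (s : ℕ → Γ), (∀ i, X.σ (s i) = gen i) ∧
      (∀ j < D.Q.P.n, s j * s j =
        X.z (bif c then D.e.getD (PC.pVar j) 0 else 0) * evalW s (D.Q.P.powWord j)) ∧
      ∀ j < D.Q.P.n, ∀ i < j, s j * s i =
        X.z (bif c then D.e.getD (PC.cVar j i) 0 else 0) * evalW s (D.Q.P.cjWord j i) * s j := by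
  classical
  simp only [Data.check, Bool.and_eq_true] at hcheck
  obtain ⟨⟨⟨hok, hgrp⟩, hrows⟩, hlin⟩ := hcheck
  have hwf : D.Q.P.wf = true := Lift.wf hok
  obtain ⟨hsatG, -⟩ := SchurCert.card_initGroup_of_groupOK C D.groupPart
    (show D.Q.P.p.Prime by rw [hp]; exact Nat.prime_two) gen hgen hwf hgrp
  change SatPC D.Q.P gen at hsatG
  simp only [Data.rowsOK, Bool.and_eq_true, List.all_eq_true, List.mem_range] at hrows
  obtain ⟨hass, hfus⟩ := hrows
  set σ := X.σ with hσdef
  set z := X.z with hzdef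
  set s : ℕ → Γ := fun i => Function.surjInv X.surj (gen i) with hsdef
  have hs : ∀ i, σ (s i) = gen i := fun i => Function.surjInv_eq X.surj (gen i)
  set c : ℕ → Γ := fun g => Function.surjInv X.surj (gsE g) with hcdef
  have hc : ∀ g, σ (c g) = gsE g := fun g => Function.surjInv_eq X.surj (gsE g)
  have heval : ∀ W, σ (evalW s W) = evalW gen W := fun W => by
    rw [SchurCert.map_evalW]; simp only [hs]
  have diff : ∀ x y : Γ, σ x = σ y → ∃ a < 2 ^ D.Q.m, x = z a * y := by
    intro x y h
    obtain ⟨a, ha, e⟩ := X.z_surj (x * y⁻¹) (by rw [map_mul, map_inv, ← h, mul_inv_cancel])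
    exact ⟨a, ha, by rw [hzdef, e, inv_mul_cancel_right]⟩
  have hpw : ∀ j, ∃ a < 2 ^ D.Q.m, j < D.Q.P.n →
      s j * s j = z a * evalW s (D.Q.P.powWord j) := by
    intro j
    by_cases hj : j < D.Q.P.n
    · obtain ⟨a, ha, e⟩ := diff (s j * s j) (evalW s (D.Q.P.powWord j)) (by
        rw [map_mul, hs, heval, ← pow_two]
        have := hsatG.1 j hj
        rwa [hp] at this)
      exact ⟨a, ha, fun _ => e⟩
    · exact ⟨0, Nat.two_pow_pos _, fun h => absurd h hj⟩
  choose vp hvp_lt hvp using hpw
  have hcj : ∀ j i, ∃ a < 2 ^ D.Q.m, j < D.Q.P.n → i < j →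
      s j * s i = z a * evalW s (D.Q.P.cjWord j i) * s j := by
    intro j i
    by_cases h : j < D.Q.P.n ∧ i < j
    · obtain ⟨a, ha, e⟩ := diff (s j * s i) (evalW s (D.Q.P.cjWord j i) * s j) (by
        rw [map_mul, map_mul, hs, hs, heval]
        exact hsatG.2 j h.1 i h.2)
      exact ⟨a, ha, fun _ _ => by rw [e, mul_assoc]⟩
    · exact ⟨0, Nat.two_pow_pos _, fun h1 h2 => absurd ⟨h1, h2⟩ h⟩
  choose vc hvc_lt hvc using hcj
  have hfj : ∀ r j, ∃ a < 2 ^ D.Q.m, r < D.fus.length → j < (D.fusAt r).A.length →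
      c (D.fusAt r).g * evalW s ((D.fusAt r).A.getD j []) =
        z a * evalW s ((D.fusAt r).B.getD j []) * c (D.fusAt r).g := by
    intro r j
    by_cases h : r < D.fus.length ∧ j < (D.fusAt r).A.length
    · have hf := hfus r h.1
      simp only [Data.fusOK, Bool.and_eq_true, List.all_eq_true, List.mem_range] at hf
      obtain ⟨⟨⟨⟨⟨-, hA⟩, hB⟩, -⟩, himg⟩, -⟩ := hf
      have hlA : ∀ x ∈ (D.fusAt r).A.getD j [], x < D.Q.P.n := fun x hx =>
        SchurCert.subst_lt (List.all_eq_true.2 hA) [j] x (by simpa [SchurCert.Cert.subst] using hx)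
      have hlB : ∀ x ∈ (D.fusAt r).B.getD j [], x < D.Q.P.n := fun x hx =>
        SchurCert.subst_lt (List.all_eq_true.2 hB) [j] x (by simpa [SchurCert.Cert.subst] using hx)
      obtain ⟨a, ha, e⟩ := diff (c (D.fusAt r).g * evalW s ((D.fusAt r).A.getD j []))
        (evalW s ((D.fusAt r).B.getD j []) * c (D.fusAt r).g) (by
          rw [map_mul, map_mul, heval, heval, hc]
          apply C.enc_inj
          rw [C.enc_mul, C.enc_mul, hgs, SchurCert.enc_evalW C (D := D.groupPart) hgen _ hlA,
            SchurCert.enc_evalW C (D := D.groupPart) hgen _ hlB]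
          exact Nat.eq_of_beq_eq_true (himg j h.2))
      exact ⟨a, ha, fun _ _ => by rw [e, mul_assoc]⟩
    · exact ⟨0, Nat.two_pow_pos _, fun h1 h2 => absurd ⟨h1, h2⟩ h⟩
  choose vf hvf_lt hvf using hfj
  -- the values of the blocks of unknowns
  set val : ℕ → ℕ := fun b =>
    if h : ∃ j, j < D.Q.P.n ∧ PC.pVar j = b then vp h.choose
    else if h : ∃ q : ℕ × ℕ, q.1 < D.Q.P.n ∧ q.2 < q.1 ∧ PC.cVar q.1 q.2 = b then
      vc h.choose.1 h.choose.2
    else vf ((b - D.nrel) / D.K) ((b - D.nrel) % D.K) with hvaldef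
  have hval_lt : ∀ b, val b < 2 ^ D.Q.m := by
    intro b
    simp only [hvaldef]
    split_ifs
    exacts [hvp_lt _, hvc_lt _ _, hvf_lt _ _]
  have hpvar : ∀ j, j < D.Q.P.n → PC.pVar j < D.nrel := fun j hj => by
    have := SchurCert.tri_lt hj
    simp only [PC.pVar, Data.nrel]; omega
  have hcvar : ∀ j i, j < D.Q.P.n → i < j → PC.cVar j i < D.nrel := fun j i hj hi => by
    have := SchurCert.tri_lt hj
    simp only [PC.cVar, Data.nrel]; omega
  set N := D.nrel + D.K * D.fus.length with hN
  set τ := tauOf D.Q.m N val with hτdef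
  have hvalP : ∀ j < D.Q.P.n, vecVal τ (unit D.Q.m (PC.pVar j)) = vp j := by
    intro j hj
    rw [hτdef, vecVal_unit val (lt_of_lt_of_le (hpvar j hj) (Nat.le_add_right _ _)) (hval_lt _)]
    have h : ∃ j', j' < D.Q.P.n ∧ PC.pVar j' = PC.pVar j := ⟨j, hj, rfl⟩
    simp only [hvaldef, dif_pos h]
    rw [SchurCert.pVar_inj h.choose_spec.2]
  have hvalC : ∀ j < D.Q.P.n, ∀ i < j, vecVal τ (unit D.Q.m (PC.cVar j i)) = vc j i := by
    intro j hj i hi
    rw [hτdef, vecVal_unit val (lt_of_lt_of_le (hcvar j i hj hi) (Nat.le_add_right _ _)) (hval_lt _)]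
    have hno : ¬ ∃ j', j' < D.Q.P.n ∧ PC.pVar j' = PC.cVar j i := by
      rintro ⟨j', -, h'⟩
      exact SchurCert.pVar_ne_cVar hi h'
    have h : ∃ q : ℕ × ℕ, q.1 < D.Q.P.n ∧ q.2 < q.1 ∧ PC.cVar q.1 q.2 = PC.cVar j i :=
      ⟨(j, i), hj, hi, rfl⟩
    simp only [hvaldef, dif_neg hno, dif_pos h]
    obtain ⟨-, h2, h3⟩ := h.choose_spec
    obtain ⟨e1, e2⟩ := SchurCert.cVar_inj h2 hi h3
    rw [e1, e2]
  have hvalF : ∀ r < D.fus.length, ∀ j < (D.fusAt r).A.length,
      vecVal τ (unit D.Q.m (D.base r + j)) = vf r j := by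
    intro r hr j hj
    have hf := hfus r hr
    simp only [Data.fusOK, Bool.and_eq_true, Nat.ble_eq] at hf
    have hjK : j < D.K := lt_of_lt_of_le hj hf.1.1.1.1.1
    have hlt : D.base r + j < N := by
      have : D.K * r + D.K ≤ D.K * D.fus.length := by
        rw [← Nat.mul_succ]; exact Nat.mul_le_mul_left _ hr
      simp only [Data.base, hN]; omega
    rw [hτdef, vecVal_unit val hlt (hval_lt _)]
    have h1 : ¬ ∃ j', j' < D.Q.P.n ∧ PC.pVar j' = D.base r + j := by
      rintro ⟨j', hj', e⟩
      have := hpvar j' hj'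
      simp only [Data.base] at e; omega
    have h2 : ¬ ∃ q : ℕ × ℕ, q.1 < D.Q.P.n ∧ q.2 < q.1 ∧ PC.cVar q.1 q.2 = D.base r + j := by
      rintro ⟨q, hq, hq', e⟩
      have := hcvar q.1 q.2 hq hq'
      simp only [Data.base] at e; omega
    simp only [hvaldef]
    rw [dif_neg h1, dif_neg h2]
    simp only [Data.base, Nat.add_assoc, Nat.add_sub_cancel_left]
    rw [Nat.mul_add_div (by omega), Nat.div_eq_of_lt hjK, Nat.add_zero, Nat.mul_add_mod,
      Nat.mod_eq_of_lt hjK]
  let L : Lift D.Q Γ :=
    { s := s, z := z, τ := τ, τ_le := tauOf_le _ _ _, z_xor := X.z_xor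
      act := fun k hk a => X.act_gen k hk (s k) (hs k) a
      pow_rel := fun j hj => by rw [hvalP j hj]; exact hvp j hj
      cj_rel := fun j hj i hi => by rw [hvalC j hj i hi]; exact hvc j i hj hi }
  have hLs : L.s = s := rfl
  have eq_zero : ∀ F : List ℕ, F.length ≤ D.Q.m → L.zF F = 1 → vecVal τ F = 0 :=
    fun F hF h => X.z_inj _ (vecVal_lt L.τ_le hF) h
  have coord_zero : ∀ F : List ℕ, vecVal τ F = 0 → ∀ i, xorSel τ (F.getD i 0) = 0 := by
    intro F h i
    have h1 := testBit_vecVal L.τ_le F i
    change (vecVal τ F).testBit i = decide (xorSel τ _ = 1) at h1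
    rw [h, Nat.zero_testBit] at h1
    have h2 := xorSel_le_one L.τ_le (F.getD i 0)
    change xorSel τ _ ≤ 1 at h2
    have h3 : xorSel τ (F.getD i 0) ≠ 1 := of_decide_eq_false h1.symm
    omega
  -- every equation holds
  have hassEq : ∀ t ∈ D.assoc, vecVal τ (D.assocEq t) = 0 := by
    intro t ht
    have h := hass t ht
    simp only [Data.assocOK, Bool.and_eq_true, decide_eq_true_eq, Nat.ble_eq] at h
    obtain ⟨⟨hlt, heq⟩, hlen⟩ := h
    have hlt' := SchurCert.mem_below hlt
    refine eq_zero _ hlen ?_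
    have e1 := L.collect_sound hok [([], [t.1, t.2.1, t.2.2])] (by simpa using hlt')
    have e2 := L.collect_sound hok [([], [t.2.1, t.2.2])]
      (by simpa using fun x hx => hlt' x (List.mem_cons_of_mem _ hx))
    have e3 := L.collect_sound hok
      [([], t.1 :: wordB D.Q.P.n (D.Q.collect [([], [t.2.1, t.2.2])]).2)] (by
        intro s hs x hx
        rw [List.mem_singleton] at hs
        subst hs
        rcases List.mem_cons.1 hx with rfl | hx
        · exact hlt' _ List.mem_cons_self
        · exact wordB_lt _ _ x hx)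
    simp only [Lift.evalSeg, L.zF_nil, one_mul, mul_one] at e1 e2 e3
    rw [evalW_cons, evalV_wordB, ← heq] at e3
    rw [evalW_cons, e2, ← mul_assoc, L.act_zF hok (hlt' _ List.mem_cons_self), mul_assoc, e3,
      ← mul_assoc, mul_left_inj] at e1
    simp only [Data.assocEq]
    rw [L.zF_xorV, L.zF_xorV, ← e1, ← L.zF_xorV, L.zF_self]
  have hrelEq : ∀ r < D.fus.length, ∀ p ∈ (D.fusAt r).rels, vecVal τ (D.relEq r p) = 0 := by
    intro r hr p hp'
    have hf := hfus r hr
    simp only [Data.fusOK, Bool.and_eq_true, List.all_eq_true, Nat.blt_eq] at hf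
    obtain ⟨⟨⟨⟨⟨-, hA⟩, hB⟩, hM⟩, -⟩, hrels⟩ := hf
    have h := hrels p hp'
    simp only [Data.relOK, Bool.and_eq_true, decide_eq_true_eq, Nat.ble_eq] at h
    obtain ⟨⟨⟨⟨hl1, hl2⟩, heA⟩, heB⟩, hlen⟩ := h
    refine eq_zero _ hlen ?_
    set g := (D.fusAt r).g with hg
    set M := D.gmats.getD g [] with hMdef
    have hcact : ∀ F, c g * L.zF F = L.zF (actF D.Q.m M F) * c g := by
      intro F
      simp only [Lift.zF]
      rw [vecVal_actF L.τ_le _ _ hM]
      exact X.act_gs r hr (c g) (hc g) _
    have hsegA : ∀ rr : List ℕ, ∀ s' ∈ Data.segsA (D.fusAt r).A rr, ∀ x ∈ s'.2,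
        x < D.Q.P.n := by
      intro rr s' hs' x hx
      simp only [Data.segsA, List.mem_map] at hs'
      obtain ⟨j, -, rfl⟩ := hs'
      exact SchurCert.subst_lt (List.all_eq_true.2 hA) [j] x
        (by simpa [SchurCert.Cert.subst] using hx)
    have hsegB : ∀ rr : List ℕ, ∀ s' ∈ Data.segsB D.Q.m (D.base r) (D.fusAt r).B rr, ∀ x ∈ s'.2,
        x < D.Q.P.n := by
      intro rr s' hs' x hx
      simp only [Data.segsB, List.mem_map] at hs'
      obtain ⟨j, -, rfl⟩ := hs'
      exact SchurCert.subst_lt (List.all_eq_true.2 hB) [j] x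
        (by simpa [SchurCert.Cert.subst] using hx)
    have hconj : ∀ rr : List ℕ, (∀ j ∈ rr, j < (D.fusAt r).A.length) →
        c g * L.evalSeg (Data.segsA (D.fusAt r).A rr) =
          L.evalSeg (Data.segsB D.Q.m (D.base r) (D.fusAt r).B rr) * c g := by
      intro rr
      induction rr with
      | nil => intro _; simp [Data.segsA, Data.segsB, Lift.evalSeg]
      | cons j rr ih =>
        intro hh
        have ih' := ih fun x hx => hh x (List.mem_cons_of_mem _ hx)
        simp only [Data.segsA, Data.segsB, List.map_cons, Lift.evalSeg_cons, L.zF_nil,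
          one_mul] at ih' ⊢
        rw [← mul_assoc]
        change c g * evalW s _ * _ = _
        rw [hvf r j hr (hh j List.mem_cons_self), mul_assoc _ (c g), ih']
        simp only [Lift.zF, hLs, ← mul_assoc]
        rw [← hvalF r hr j (hh j List.mem_cons_self)]
    have key : ∀ rr : List ℕ, (∀ j ∈ rr, j < (D.fusAt r).A.length) →
        c g * evalV L.s D.Q.P.n (D.Q.collect (Data.segsA (D.fusAt r).A rr)).2 =
          L.zF (xorV (actF D.Q.m M (D.Q.collect (Data.segsA (D.fusAt r).A rr)).1)
            (D.Q.collect (Data.segsB D.Q.m (D.base r) (D.fusAt r).B rr)).1) *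
            (evalV L.s D.Q.P.n
              (D.Q.collect (Data.segsB D.Q.m (D.base r) (D.fusAt r).B rr)).2 * c g) := by
      intro rr hh
      have e := hconj rr hh
      rw [L.collect_sound hok _ (hsegA rr), L.collect_sound hok _ (hsegB rr), ← mul_assoc,
        hcact] at e
      rw [L.zF_xorV, mul_assoc (L.zF _) (L.zF _)]
      rw [← mul_assoc (L.zF (D.Q.collect _).1), ← e, ← mul_assoc, ← mul_assoc, L.zF_self, one_mul]
    have k1 := key p.1 (SchurCert.mem_below hl1)
    have k2 := key p.2 (SchurCert.mem_below hl2)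
    rw [heA, k2, heB, mul_left_inj] at k1
    simp only [Data.relEq]
    rw [← hg, ← hMdef, L.zF_xorV, ← k1, L.zF_self]
  have heqs : ∀ f ∈ D.eqs, xorSel τ f = 0 := by
    intro f hf
    simp only [Data.eqs, List.mem_flatMap, List.mem_map, List.mem_range] at hf
    obtain ⟨F, hF, i, -, rfl⟩ := hf
    refine coord_zero F ?_ i
    simp only [Data.eqVecs, List.mem_append, List.mem_map, List.mem_flatMap,
      List.mem_range] at hF
    rcases hF with ⟨t, ht, rfl⟩ | ⟨r, hr, p, hp', rfl⟩
    · exact hassEq t ht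
    · exact hrelEq r hr p hp'
  -- the changed tails
  set cb : Bool := decide (xorSel τ D.ell = 1) with hcb
  have htail : ∀ var R, D.tailOK D.eqs var R = true →
      vecVal τ R = bif cb then D.e.getD var 0 else 0 := by
    intro var R h
    simp only [Data.tailOK, Bool.and_eq_true, List.all_eq_true, List.mem_range, Nat.ble_eq,
      Nat.blt_eq] at h
    obtain ⟨⟨hR, he⟩, hall⟩ := h
    apply Nat.eq_of_testBit_eq
    intro i
    by_cases hi : i < D.Q.m
    · have h1 := Nat.eq_of_beq_eq_true (hall i hi)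
      have h2 : xorSel τ (R.getD i 0 ^^^ (bif (D.e.getD var 0).testBit i then D.ell else 0)) = 0 := by
        rw [h1]
        exact xorSel_map_eq_zero (g := xorSel τ) (xorSel_xor τ) heqs _
      rw [xorSel_xor] at h2
      rw [testBit_vecVal L.τ_le]
      change decide (xorSel τ (R.getD i 0) = 1) = _
      rw [Nat.xor_eq_zero_iff] at h2
      rw [h2]
      rcases Bool.eq_false_or_eq_true ((D.e.getD var 0).testBit i) with hb | hb
      · rw [hb, cond_true]
        change cb = _
        cases cb
        · exact (Nat.zero_testBit i).symm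
        · exact hb.symm
      · rw [hb, cond_false, xorSel_zero]
        cases cb
        · exact (Nat.zero_testBit i).symm
        · exact hb.symm
    · have hlt : ∀ x, x < 2 ^ D.Q.m → x.testBit i = false := fun x hx =>
        Nat.testBit_lt_two_pow (lt_of_lt_of_le hx (Nat.pow_le_pow_right (by norm_num) (by omega)))
      rw [hlt _ (vecVal_lt L.τ_le hR)]
      cases cb
      · simp
      · exact (hlt _ he).symm
  simp only [Data.linOK, List.all_eq_true, List.mem_range, Bool.and_eq_true] at hlin
  set s' : ℕ → Γ := fun i => L.zF (D.bet i) * s i with hs'def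
  have hshift : ∀ W : List ℕ, (∀ x ∈ W, x < D.Q.P.n) →
      evalW s' W = L.zF (D.shiftW W) * evalW s W := by
    intro W
    induction W with
    | nil => intro _; simp [Data.shiftW, L.zF_nil]
    | cons i W ih =>
      intro hW
      have h1 : s i * L.zF (D.shiftW W) = L.zF (actF D.Q.m (D.Q.mat i) (D.shiftW W)) * s i :=
        L.act_zF hok (hW i List.mem_cons_self) _
      rw [evalW_cons, ih fun x hx => hW x (List.mem_cons_of_mem _ hx), evalW_cons, Data.shiftW,
        L.zF_xorV]
      simp only [hs'def]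
      rw [mul_assoc, ← mul_assoc (s i), h1]
      simp only [mul_assoc]
  have hshift' : ∀ W : List ℕ, (∀ x ∈ W, x < D.Q.P.n) →
      evalW s W = L.zF (D.shiftW W) * evalW s' W := by
    intro W hW
    rw [hshift W hW, ← mul_assoc, L.zF_self, one_mul]
  refine ⟨cb, s', fun i => ?_, fun j hj => ?_, fun j hj i hi => ?_⟩
  · simp only [hs'def, map_mul, hs, Lift.zF]
    rw [show σ (L.z _) = 1 from X.z_ker _, one_mul]
  · have e : L.zF (D.resP j) = z (bif cb then D.e.getD (PC.pVar j) 0 else 0) := by
      simp only [Lift.zF]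
      rw [htail _ _ (hlin j hj).1]
    rw [← e]
    simp only [Data.resP, L.zF_xorV]
    have h1 := L.act_zF hok hj (D.bet j)
    have h2 : s j * s j = L.zF (unit D.Q.m (PC.pVar j)) * evalW s (D.Q.P.powWord j) :=
      L.pow_rel j hj
    rw [hLs] at h1
    simp only [hs'def]
    rw [mul_assoc, ← mul_assoc (s j), h1, mul_assoc, h2,
      hshift' _ fun x hx => (PC.wf_powWord hwf hj x hx).trans hj]
    simp only [mul_assoc]
    rfl
  · have e : L.zF (D.resC j i) = z (bif cb then D.e.getD (PC.cVar j i) 0 else 0) := by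
      simp only [Lift.zF]
      rw [htail _ _ ((hlin j hj).2 i hi)]
    rw [← e]
    simp only [Data.resC, L.zF_xorV]
    have h1 := L.act_zF hok hj (D.bet i)
    have h2 : s j * s i =
        L.zF (unit D.Q.m (PC.cVar j i)) * evalW s (D.Q.P.cjWord j i) * s j :=
      L.cj_rel j hj i hi
    have h3 := hshift' (D.Q.P.cjWord j i ++ [j]) (by
      intro x hx
      rcases List.mem_append.1 hx with h | h
      · exact (PC.wf_cjWord hwf hj hi x h).trans hj
      · rw [List.mem_singleton] at h; omega)
    rw [evalW_append, evalW_append, evalW_cons, evalW_nil, mul_one, evalW_cons, evalW_nil,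
      mul_one] at h3
    rw [hLs] at h1
    show L.zF (D.bet j) * s j * (L.zF (D.bet i) * s i) = _ * evalW s' _ * s' j
    rw [mul_assoc, ← mul_assoc (s j), h1, mul_assoc, h2, mul_assoc _ (evalW s _) (s j), h3]
    simp only [mul_assoc]

/-- Lifts satisfying the relations exactly give a complement of an abelian kernel of order a
power of two. -/
theorem exists_complement_of_satPC {G : Type*} [Group G] [Finite G] {Γ : Type*} [Group Γ]
    [Finite Γ] (σ : Γ →* G) (hsurj : Function.Surjective σ) [IsMulCommutative σ.ker] (m : ℕ)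
    (hker : Nat.card σ.ker = 2 ^ m) {P : PC} (hp : P.p = 2) (hwf : P.wf = true)
    {gen : ℕ → G} (hcard : Nat.card (initGroup gen P.n) = 2 ^ P.n)
    (hodd : Odd (initGroup gen P.n).index)
    {s : ℕ → Γ} (hs : ∀ i, σ (s i) = gen i) (hsat : SatPC P s) :
    ∃ H : Subgroup Γ, Subgroup.IsComplement' σ.ker H := by
  set S := initGroup gen P.n with hS
  set A := initGroup s P.n with hA
  have hmap : A.map σ = S := by
    rw [hA, initGroup, MonoidHom.map_closure, hS, initGroup, ← Set.image_comp]
    exact congrArg Subgroup.closure (Set.image_congr' hs)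
  have hT : Nat.card A ≤ 2 ^ P.n := by
    have := SchurCert.card_initGroup_le hwf hsat (by omega) (le_refl P.n)
    rwa [hp] at this
  have hbot : A ⊓ σ.ker = ⊥ := by
    rw [eq_bot_iff]
    rintro x ⟨hx, h1⟩
    rw [Subgroup.mem_bot]
    let f : A → S := fun y => ⟨σ y, hmap ▸ Subgroup.mem_map_of_mem σ y.2⟩
    have hfs : Function.Surjective f := by
      rintro ⟨y, hy⟩
      rw [← hmap] at hy
      obtain ⟨w, hw, rfl⟩ := hy
      exact ⟨⟨w, hw⟩, rfl⟩
    have hc : Nat.card A = Nat.card S :=
      le_antisymm (hT.trans hcard.ge) (Nat.card_le_card_of_surjective f hfs)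
    have hinj : Function.Injective f :=
      ((Nat.bijective_iff_surjective_and_card f).2 ⟨hfs, hc⟩).1
    exact congrArg Subtype.val
      (@hinj ⟨x, hx⟩ 1 (Subtype.ext (by simpa [f] using MonoidHom.mem_ker.1 h1)))
  have hU : σ.ker ⊔ A = S.comap σ := by
    refine le_antisymm (sup_le (Subgroup.ker_le_comap σ S) ?_) fun x hx => ?_
    · rw [← hmap]; exact Subgroup.le_comap_map _ _
    · rw [Subgroup.mem_comap, ← hmap] at hx
      obtain ⟨a, ha, e⟩ := hx
      have : x = (x * a⁻¹) * a := by rw [inv_mul_cancel_right]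
      rw [this]
      exact Subgroup.mul_mem_sup (by simp [MonoidHom.mem_ker, e]) ha
  refine Gaschutz.exists_complement σ.ker (S.comap σ) (Subgroup.ker_le_comap σ S) ?_ A hbot hU
  rw [hker, Subgroup.index_comap_of_surjective _ hsurj]
  exact Nat.Coprime.pow_left _ (Nat.coprime_two_left.2 hodd)

end Cfsg.Agent.ExtCert
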