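import Cfsg.Agent.ExtCert.Forms
import Cfsg.Agent.SchurCert.PCGroup

set_option autoImplicit false

/-!
Collection in an extension of a polycyclic presentation of exponent two by a module over the
field with two elements, with the tails recorded as vectors of forms.
-/

namespace Cfsg.Agent.ExtCert

open Cfsg.Agent.Golay (xorSel xorSel_xor)
open Cfsg.Agent.SchurCert (PC evalW evalW_cons evalW_nil evalW_append)

/-- A presentation with the matrices of its generators on the module. -/
structure Pres where
  /-- The presentation. -/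
  P : PC
  /-- The dimension of the module. -/
  m : ℕ
  /-- The matrices, by the images of the unit vectors. -/
  mats : List (List ℕ)

namespace Pres

variable (Q : Pres)

/-- The matrix of a generator. -/
def mat (k : ℕ) : List ℕ := Q.mats.getD k []

/-- The shape is right. -/
def ok : Bool :=
  Q.P.wf && (List.range Q.P.n).all fun k => (Q.mat k).all fun r => Nat.blt r (2 ^ Q.m)

/-- A vector carried to the left of a normal form. -/
def actV : ℕ → List Bool → List ℕ → List ℕ
  | 0, _, F => F
  | k + 1, v, F => actV k v.tail (bif v.headD false then actF Q.m (Q.mat k) F else F)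

/-- Multiply a normal form by a word. -/
def fold (step : List Bool → ℕ → List ℕ × List Bool) :
    List ℕ → List Bool → List ℕ × List Bool
  | [], v => ([], v)
  | i :: W, v => (xorV (step v i).1 (fold step W (step v i).2).1, (fold step W (step v i).2).2)

/-- Multiply a normal form at level `k` by a generator below `k`. -/
def mg : ℕ → List Bool → ℕ → List ℕ × List Bool
  | 0, v, _ => ([], v)
  | k + 1, v, i =>
    if i = k then
      bif v.headD false then
        let r := fold (mg k) (Q.P.powWord k) v.tail
        (xorV (Q.actV k v.tail (unit Q.m (PC.pVar k))) r.1, false :: r.2)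
      else ([], true :: v.tail)
    else
      bif v.headD false then
        let r := fold (mg k) (Q.P.cjWord k i) v.tail
        (xorV (Q.actV k v.tail (unit Q.m (PC.cVar k i))) r.1, true :: r.2)
      else
        let r := mg k v.tail i
        (r.1, false :: r.2)

/-- The trivial normal form. -/
def zero : List Bool := List.replicate Q.P.n false

/-- Multiply a normal form by segments, each a vector followed by a word. -/
def foldSeg : List (List ℕ × List ℕ) → List Bool → List ℕ × List Bool
  | [], v => ([], v)
  | s :: L, v =>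
    let r := fold (Q.mg Q.P.n) s.2 v
    let q := foldSeg L r.2
    (xorV (Q.actV Q.P.n v s.1) (xorV r.1 q.1), q.2)

/-- Collect segments. -/
def collect (L : List (List ℕ × List ℕ)) : List ℕ × List Bool := Q.foldSeg L Q.zero

end Pres

/-- The word of a normal form. -/
def wordB : ℕ → List Bool → List ℕ
  | 0, _ => []
  | k + 1, v => wordB k v.tail ++ (bif v.headD false then [k] else [])

theorem wordB_lt : ∀ (k : ℕ) (v : List Bool), ∀ x ∈ wordB k v, x < k
  | 0, v, x, hx => by simp [wordB] at hx
  | k + 1, v, x, hx => by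
    rw [wordB, List.mem_append] at hx
    rcases hx with h | h
    · exact (wordB_lt k v.tail x h).trans (Nat.lt_succ_self k)
    · rcases Bool.eq_false_or_eq_true (v.headD false) with hb | hb
      · rw [hb, cond_true, List.mem_singleton] at h
        omega
      · rw [hb, cond_false] at h
        simp at h

variable {Γ : Type*} [Group Γ]

/-- The value of a normal form. -/
def evalV (s : ℕ → Γ) : ℕ → List Bool → Γ
  | 0, _ => 1
  | k + 1, v => evalV s k v.tail * bif v.headD false then s k else 1

theorem evalV_wordB (s : ℕ → Γ) : ∀ k v, evalW s (wordB k v) = evalV s k v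
  | 0, v => rfl
  | k + 1, v => by
    rw [wordB, evalW_append, evalV_wordB s k v.tail, evalV]
    cases v.headD false <;> simp

theorem evalV_zero (s : ℕ → Γ) : ∀ k, evalV s k (List.replicate k false) = 1
  | 0 => rfl
  | k + 1 => by simp [evalV, List.replicate_succ, evalV_zero s k]

/-- A map of the module and lifts satisfying the relations up to tails. -/
structure Lift (Q : Pres) (Γ : Type*) [Group Γ] where
  /-- The lifts. -/
  s : ℕ → Γ
  /-- The map of the module. -/
  z : ℕ → Γ
  /-- The unknown bits. -/
  τ : List ℕ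
  τ_le : ∀ x ∈ τ, x ≤ 1
  z_xor : ∀ a b, z (a ^^^ b) = z a * z b
  act : ∀ k < Q.P.n, ∀ a, s k * z a = z (xorSel (Q.mat k) a) * s k
  pow_rel : ∀ j < Q.P.n,
    s j * s j = z (vecVal τ (unit Q.m (PC.pVar j))) * evalW s (Q.P.powWord j)
  cj_rel : ∀ j < Q.P.n, ∀ i < j,
    s j * s i = z (vecVal τ (unit Q.m (PC.cVar j i))) * evalW s (Q.P.cjWord j i) * s j

namespace Lift

variable {Q : Pres} (L : Lift Q Γ)

/-- The value of a vector of forms. -/
def zF (F : List ℕ) : Γ := L.z (vecVal L.τ F)

theorem z_zero : L.z 0 = 1 := by
  have h := L.z_xor 0 0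
  rw [Nat.xor_self] at h
  exact (mul_eq_left.1 h.symm)

theorem z_self (a : ℕ) : L.z a * L.z a = 1 := by
  rw [← L.z_xor, Nat.xor_self, L.z_zero]

theorem zF_nil : L.zF [] = 1 := L.z_zero

theorem zF_xorV (F G : List ℕ) : L.zF (xorV F G) = L.zF F * L.zF G := by
  rw [zF, vecVal_xorV, L.z_xor]; rfl

theorem zF_comm (F G : List ℕ) : L.zF F * L.zF G = L.zF G * L.zF F := by
  rw [zF, zF, ← L.z_xor, ← L.z_xor, Nat.xor_comm]

theorem zF_self (F : List ℕ) : L.zF F * L.zF F = 1 := L.z_self _

variable (hok : Q.ok = true)
include hok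

theorem wf : Q.P.wf = true := by
  simp only [Pres.ok, Bool.and_eq_true] at hok
  exact hok.1

theorem mat_lt {k : ℕ} (hk : k < Q.P.n) : ∀ r ∈ Q.mat k, r < 2 ^ Q.m := by
  simp only [Pres.ok, Bool.and_eq_true, List.all_eq_true, List.mem_range, Nat.blt_eq] at hok
  exact hok.2 k hk

theorem act_zF {k : ℕ} (hk : k < Q.P.n) (F : List ℕ) :
    L.s k * L.zF F = L.zF (actF Q.m (Q.mat k) F) * L.s k := by
  rw [zF, zF, L.act k hk, vecVal_actF L.τ_le _ _ (mat_lt hok hk)]

theorem actV_sound : ∀ k, k ≤ Q.P.n → ∀ (v : List Bool) (F : List ℕ),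
    evalV L.s k v * L.zF F = L.zF (Q.actV k v F) * evalV L.s k v
  | 0, _, v, F => by simp [evalV, Pres.actV]
  | k + 1, hk, v, F => by
    rw [evalV, Pres.actV]
    cases v.headD false
    · simp only [cond_false, mul_one]
      exact actV_sound k (Nat.le_of_succ_le hk) _ _
    · simp only [cond_true]
      rw [mul_assoc, L.act_zF hok hk, ← mul_assoc, actV_sound k (Nat.le_of_succ_le hk), mul_assoc]

theorem fold_sound {k : ℕ} {step : List Bool → ℕ → List ℕ × List Bool}
    (h : ∀ v i, i < k → evalV L.s k v * L.s i = L.zF (step v i).1 * evalV L.s k (step v i).2) :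
    ∀ (W : List ℕ) (v : List Bool), (∀ x ∈ W, x < k) → evalV L.s k v * evalW L.s W =
      L.zF (Pres.fold step W v).1 * evalV L.s k (Pres.fold step W v).2 := by
  intro W
  induction W with
  | nil => intro v _; simp [Pres.fold, L.zF_nil]
  | cons i W ih =>
    intro v hW
    simp only [Pres.fold, evalW_cons, L.zF_xorV]
    rw [← mul_assoc, h v i (hW i List.mem_cons_self), mul_assoc,
      ih _ fun x hx => hW x (List.mem_cons_of_mem _ hx), ← mul_assoc]

theorem mg_sound : ∀ k, k ≤ Q.P.n → ∀ (v : List Bool) (i : ℕ), i < k →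
    evalV L.s k v * L.s i = L.zF (Q.mg k v i).1 * evalV L.s k (Q.mg k v i).2 := by
  intro k
  induction k with
  | zero => intro _ v i hi; omega
  | succ k ih =>
    intro hk v i hi
    have hk' : k < Q.P.n := hk
    have hfold := L.fold_sound hok (ih hk'.le)
    have hpw : ∀ x ∈ Q.P.powWord k, x < k := PC.wf_powWord (wf hok) hk'
    by_cases hik : i = k
    · subst hik
      cases hv : v.headD false
      · simp only [Pres.mg, if_true, hv, cond_false, cond_true, evalV, List.tail_cons,
          List.headD_cons, mul_one, L.zF_nil, one_mul]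
      · simp only [Pres.mg, if_true, hv, cond_true, cond_false, evalV, List.tail_cons,
          List.headD_cons, mul_one, L.zF_xorV]
        rw [mul_assoc, L.pow_rel i hk', ← mul_assoc]
        change evalV L.s i v.tail * L.zF _ * _ = _
        rw [L.actV_sound hok i hk'.le, mul_assoc, hfold _ _ hpw]
        simp only [mul_assoc]
    · have hik' : i < k := by omega
      cases hv : v.headD false
      · simp only [Pres.mg, if_neg hik, hv, cond_false, evalV, List.tail_cons,
          List.headD_cons, mul_one]
        exact ih hk'.le _ _ hik'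
      · simp only [Pres.mg, if_neg hik, hv, cond_true, evalV, List.tail_cons,
          List.headD_cons, L.zF_xorV]
        rw [mul_assoc, L.cj_rel k hk' i hik', ← mul_assoc, ← mul_assoc]
        change evalV L.s k v.tail * L.zF _ * _ * _ = _
        rw [L.actV_sound hok k hk'.le, mul_assoc (L.zF _),
          hfold _ _ (PC.wf_cjWord (wf hok) hk' hik')]
        simp only [mul_assoc]

/-- The value of segments. -/
def evalSeg : List (List ℕ × List ℕ) → Γ
  | [] => 1
  | s :: R => L.zF s.1 * evalW L.s s.2 * evalSeg R

omit hok in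
theorem evalSeg_cons (s : List ℕ × List ℕ) (R : List (List ℕ × List ℕ)) :
    L.evalSeg (s :: R) = L.zF s.1 * evalW L.s s.2 * L.evalSeg R := rfl

theorem foldSeg_sound : ∀ (R : List (List ℕ × List ℕ)) (v : List Bool),
    (∀ s ∈ R, ∀ x ∈ s.2, x < Q.P.n) →
      evalV L.s Q.P.n v * L.evalSeg R =
        L.zF (Q.foldSeg R v).1 * evalV L.s Q.P.n (Q.foldSeg R v).2 := by
  intro R
  induction R with
  | nil => intro v _; simp [Pres.foldSeg, evalSeg, L.zF_nil]
  | cons s R ih =>
    intro v h
    simp only [Pres.foldSeg, L.evalSeg_cons, L.zF_xorV]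
    rw [← mul_assoc, ← mul_assoc, L.actV_sound hok _ le_rfl, mul_assoc (L.zF _),
      L.fold_sound hok (L.mg_sound hok _ le_rfl) _ _ (h s List.mem_cons_self)]
    simp only [mul_assoc]
    rw [ih _ fun x hx => h x (List.mem_cons_of_mem _ hx)]

theorem collect_sound (R : List (List ℕ × List ℕ)) (h : ∀ s ∈ R, ∀ x ∈ s.2, x < Q.P.n) :
    L.evalSeg R = L.zF (Q.collect R).1 * evalV L.s Q.P.n (Q.collect R).2 := by
  have := L.foldSeg_sound hok R Q.zero h
  rwa [Pres.zero, evalV_zero, one_mul] at this

end Lift

end Cfsg.Agent.ExtCert
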