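import Cfsg.Agent.Golay.Bits

set_option autoImplicit false

/-!
Vectors over the field with two elements whose coordinates are linear forms in unknown bits:
a form is a mask of unknowns, a vector of forms is a list of masks.
-/

namespace Cfsg.Agent.ExtCert

open Cfsg.Agent.Golay (xorSel xorSel_xor)

/-- Coordinatewise sum. -/
def xorV : List ℕ → List ℕ → List ℕ
  | [], G => G
  | f :: F, [] => f :: F
  | f :: F, g :: G => (f ^^^ g) :: xorV F G

/-- The form `f` at the places of the bits of `r`. -/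
def spread : ℕ → ℕ → ℕ → List ℕ
  | 0, _, _ => []
  | n + 1, r, f => (bif r.testBit 0 then f else 0) :: spread n (r / 2) f

/-- A matrix, given by the images of the unit vectors, applied to a vector of forms. -/
def actF (m : ℕ) : List ℕ → List ℕ → List ℕ
  | r :: M, f :: F => xorV (spread m r f) (actF m M F)
  | _, _ => []

/-- The vector of the unknowns of block `b`. -/
def unit (m b : ℕ) : List ℕ := (List.range m).map fun i => 2 ^ (m * b + i)

/-- The value of a vector of forms. -/
def vecVal (τ : List ℕ) : List ℕ → ℕ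
  | [] => 0
  | f :: F => xorSel τ f ^^^ (2 * vecVal τ F)

@[simp] theorem xorSel_zero (L : List ℕ) : xorSel L 0 = 0 := by
  induction L with
  | nil => rfl
  | cons r L ih => simp [xorSel, ih]

theorem two_mul_xor (a b : ℕ) : 2 * (a ^^^ b) = 2 * a ^^^ 2 * b := by
  have h := Nat.shiftLeft_xor_distrib (a := a) (b := b) (i := 1)
  simpa [Nat.shiftLeft_eq, mul_comm] using h

theorem xorSel_le_one {τ : List ℕ} (hτ : ∀ x ∈ τ, x ≤ 1) (f : ℕ) : xorSel τ f ≤ 1 := by
  induction τ generalizing f with
  | nil => simp [xorSel]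
  | cons r τ ih =>
    have h1 : (bif f.testBit 0 then r else 0) < 2 ^ 1 := by
      have := hτ r List.mem_cons_self
      cases f.testBit 0 <;> simp; omega
    have h2 : xorSel τ (f / 2) < 2 ^ 1 :=
      Nat.lt_succ_of_le (ih (fun x hx => hτ x (List.mem_cons_of_mem _ hx)) _)
    have h3 : xorSel (r :: τ) f < 2 ^ 1 := Nat.xor_lt_two_pow h1 h2
    omega

theorem xorSel_lt {L : List ℕ} {m : ℕ} (h : ∀ x ∈ L, x < 2 ^ m) (a : ℕ) :
    xorSel L a < 2 ^ m := by
  induction L generalizing a with
  | nil => simp [xorSel]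
  | cons r L ih =>
    refine Nat.xor_lt_two_pow ?_ (ih (fun x hx => h x (List.mem_cons_of_mem _ hx)) _)
    cases a.testBit 0
    · simp
    · exact h r List.mem_cons_self

theorem xorSel_map_eq_zero {L : List ℕ} {g : ℕ → ℕ} (hg : ∀ a b, g (a ^^^ b) = g a ^^^ g b)
    (h : ∀ x ∈ L, g x = 0) (c : ℕ) : g (xorSel L c) = 0 := by
  have h0 : g 0 = 0 := by simpa using hg 0 0
  induction L generalizing c with
  | nil => exact h0
  | cons r L ih =>
    rw [xorSel, hg, ih (fun x hx => h x (List.mem_cons_of_mem _ hx)), Nat.xor_zero]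
    cases c.testBit 0
    · exact h0
    · exact h r List.mem_cons_self

theorem vecVal_xorV (τ : List ℕ) : ∀ F G, vecVal τ (xorV F G) = vecVal τ F ^^^ vecVal τ G
  | [], G => by simp [xorV, vecVal]
  | f :: F, [] => by simp [xorV, vecVal]
  | f :: F, g :: G => by
    simp only [xorV, vecVal, xorSel_xor, vecVal_xorV τ F G, two_mul_xor]
    ac_rfl

theorem vecVal_spread {τ : List ℕ} (hτ : ∀ x ∈ τ, x ≤ 1) :
    ∀ (n r f : ℕ), r < 2 ^ n → vecVal τ (spread n r f) = xorSel τ f * r
  | 0, r, f, h => by simp [spread, vecVal, show r = 0 by simpa using h]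
  | n + 1, r, f, h => by
    rw [spread, vecVal, vecVal_spread hτ n (r / 2) f (by rw [pow_succ] at h; omega)]
    rcases Nat.le_one_iff_eq_zero_or_eq_one.1 (xorSel_le_one hτ f) with hx | hx
    · rw [hx]; cases r.testBit 0 <;> simp [hx]
    · rw [hx, Nat.one_mul, Nat.one_mul]
      apply Nat.eq_of_testBit_eq
      intro i
      rw [Nat.testBit_xor]
      cases i with
      | zero =>
        cases hr : r.testBit 0 <;> simp_all [Nat.testBit_zero]
      | succ i =>
        cases r.testBit 0 <;> simp [hx, Nat.testBit_succ]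

theorem vecVal_actF {τ : List ℕ} (hτ : ∀ x ∈ τ, x ≤ 1) {m : ℕ} :
    ∀ (M F : List ℕ), (∀ r ∈ M, r < 2 ^ m) → vecVal τ (actF m M F) = xorSel M (vecVal τ F)
  | [], F, _ => by simp [actF, vecVal, xorSel]
  | r :: M, [], _ => by simp [actF, vecVal]
  | r :: M, f :: F, h => by
    rw [actF, vecVal_xorV, vecVal_spread hτ m r f (h r List.mem_cons_self),
      vecVal_actF hτ M F fun x hx => h x (List.mem_cons_of_mem _ hx)]
    rcases Nat.le_one_iff_eq_zero_or_eq_one.1 (xorSel_le_one hτ f) with hx | hx
    · simp [vecVal, xorSel, hx, Nat.testBit_zero]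
    · have h1 : (1 ^^^ 2 * vecVal τ F).testBit 0 = true := by simp [Nat.testBit_xor, Nat.testBit_zero]
      have h2 : (1 ^^^ 2 * vecVal τ F) / 2 = vecVal τ F := by
        apply Nat.eq_of_testBit_eq
        intro i
        rw [← Nat.testBit_succ, Nat.testBit_xor]
        simp [Nat.testBit_succ]
      simp only [vecVal, hx, xorSel, h1, h2, cond_true, Nat.one_mul]

theorem testBit_vecVal {τ : List ℕ} (hτ : ∀ x ∈ τ, x ≤ 1) :
    ∀ (F : List ℕ) (i : ℕ), (vecVal τ F).testBit i = decide (xorSel τ (F.getD i 0) = 1)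
  | [], i => by simp [vecVal]
  | f :: F, i => by
    rw [vecVal, Nat.testBit_xor]
    have h := Nat.le_one_iff_eq_zero_or_eq_one.1 (xorSel_le_one hτ f)
    cases i with
    | zero => rcases h with hx | hx <;> simp [hx, Nat.testBit_zero]
    | succ i =>
      rw [Nat.testBit_succ, Nat.testBit_succ, List.getD_cons_succ]
      rcases h with hx | hx <;> simp [hx, testBit_vecVal hτ F i]

theorem vecVal_lt {τ : List ℕ} (hτ : ∀ x ∈ τ, x ≤ 1) {F : List ℕ} {m : ℕ} (h : F.length ≤ m) :
    vecVal τ F < 2 ^ m := by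
  refine Nat.lt_pow_two_of_testBit _ fun i hi => ?_
  simp [testBit_vecVal hτ, List.getD_eq_getElem?_getD,
    List.getElem?_eq_none (le_trans h hi)]

/-- The list of unknown bits with given values of the blocks. -/
def tauOf (m N : ℕ) (val : ℕ → ℕ) : List ℕ :=
  (List.range (m * N)).map fun k => ((val (k / m)).testBit (k % m)).toNat

theorem tauOf_le (m N : ℕ) (val : ℕ → ℕ) : ∀ x ∈ tauOf m N val, x ≤ 1 := by
  intro x hx
  simp only [tauOf, List.mem_map] at hx
  obtain ⟨k, -, rfl⟩ := hx
  exact Bool.toNat_le _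

theorem xorSel_two_pow : ∀ (L : List ℕ) (k : ℕ), xorSel L (2 ^ k) = L.getD k 0
  | [], k => by simp [xorSel]
  | r :: L, 0 => by simp [xorSel]
  | r :: L, k + 1 => by
    rw [xorSel, List.getD_cons_succ, ← xorSel_two_pow L k]
    simp [pow_succ, Nat.testBit_zero]

theorem vecVal_unit {m N b : ℕ} (val : ℕ → ℕ) (hb : b < N) (hv : val b < 2 ^ m) :
    vecVal (tauOf m N val) (unit m b) = val b := by
  apply Nat.eq_of_testBit_eq
  intro i
  rw [testBit_vecVal (tauOf_le m N val)]
  by_cases hi : i < m
  · have hlt : m * b + i < m * N :=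
      lt_of_lt_of_le (by omega : m * b + i < m * b + m)
        (by rw [← Nat.mul_succ]; exact Nat.mul_le_mul_left _ hb)
    rw [show (unit m b).getD i 0 = 2 ^ (m * b + i) by
      simp [unit, List.getD_eq_getElem?_getD, hi], xorSel_two_pow]
    have hm : 0 < m := by omega
    have e1 : (m * b + i) / m = b := by
      rw [Nat.mul_add_div hm, Nat.div_eq_of_lt hi, Nat.add_zero]
    have e2 : (m * b + i) % m = i := by
      rw [Nat.mul_add_mod, Nat.mod_eq_of_lt hi]
    simp only [tauOf, List.getD_eq_getElem?_getD, List.getElem?_map,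
      List.getElem?_range hlt, Option.map_some, Option.getD_some, e1, e2]
    cases (val b).testBit i <;> simp
  · rw [Nat.testBit_lt_two_pow (lt_of_lt_of_le hv (Nat.pow_le_pow_right (by norm_num) (by omega)))]
    simp [unit, List.getD_eq_getElem?_getD, hi]

end Cfsg.Agent.ExtCert
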