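import Cfsg.Agent.ExtCert.Cert

set_option autoImplicit false

/-!
Two extensions whose lifts over a Sylow subgroup have the same tails are isomorphic: the
quotient of their fibre product by the diagonal copy of the module splits.
-/

namespace Cfsg.Agent.ExtCert

open Cfsg.Agent.SchurCert (PC evalW evalW_cons evalW_nil Code SatPC initGroup)

variable {G : Type*} [Group G] {D : Data} {gen gsE : ℕ → G}

namespace Ext

variable {Γ : Type*} [Group Γ] (X : Ext D gen gsE Γ)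

theorem z_zero : X.z 0 = 1 := by
  have h := X.z_xor 0 0
  rw [Nat.xor_self] at h
  exact (mul_eq_left.1 h.symm)

theorem z_self (a : ℕ) : X.z a * X.z a = 1 := by
  rw [← X.z_xor, Nat.xor_self, X.z_zero]

theorem z_comm (a b : ℕ) : X.z a * X.z b = X.z b * X.z a := by
  rw [← X.z_xor, ← X.z_xor, Nat.xor_comm]

theorem eq_of_z_eq {a b : ℕ} (ha : a < 2 ^ D.Q.m) (hb : b < 2 ^ D.Q.m) (h : X.z a = X.z b) :
    a = b :=
  Nat.xor_eq_zero_iff.1 (X.z_inj _ (Nat.xor_lt_two_pow ha hb) (by rw [X.z_xor, h, X.z_self]))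

theorem isMulCommutative_ker : IsMulCommutative X.σ.ker := ⟨⟨fun u v => by
  obtain ⟨a, -, ha⟩ := X.z_surj u u.2
  obtain ⟨b, -, hb⟩ := X.z_surj v v.2
  refine Subtype.ext ?_
  show (u : Γ) * v = v * u
  rw [← ha, ← hb, X.z_comm]⟩⟩

theorem card_ker : Nat.card X.σ.ker = 2 ^ D.Q.m := by
  have hbij : Function.Bijective
      (fun a : Fin (2 ^ D.Q.m) => (⟨X.z a, X.z_ker a⟩ : X.σ.ker)) := by
    refine ⟨fun a b h => Fin.ext (X.eq_of_z_eq a.2 b.2 (congrArg Subtype.val h)), fun x => ?_⟩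
    obtain ⟨a, ha, e⟩ := X.z_surj x x.2
    exact ⟨⟨a, ha⟩, Subtype.ext e⟩
  rw [← Nat.card_eq_of_bijective _ hbij, Nat.card_fin]

/-- Either a complement exists or some lifts have exactly the fixed cocycle as tails. -/
theorem complement_or_twist (C : Code G) [Finite G] [Finite Γ]
    (hgen : ∀ i < D.Q.P.n, C.enc (gen i) = D.gens.getD i C.one)
    (hgs : ∀ i, C.enc (gsE i) = D.gs.getD i C.one)
    (hp : D.Q.P.p = 2) (hcheck : D.check C.mul C.one = true)
    (hcard : Nat.card (initGroup gen D.Q.P.n) = 2 ^ D.Q.P.n)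
    (hodd : Odd (initGroup gen D.Q.P.n).index) :
    (∃ H : Subgroup Γ, Subgroup.IsComplement' X.σ.ker H) ∨
      ∃ s : ℕ → Γ, (∀ i, X.σ (s i) = gen i) ∧
        (∀ j < D.Q.P.n, s j * s j =
          X.z (D.e.getD (PC.pVar j) 0) * evalW s (D.Q.P.powWord j)) ∧
        ∀ j < D.Q.P.n, ∀ i < j, s j * s i =
          X.z (D.e.getD (PC.cVar j i) 0) * evalW s (D.Q.P.cjWord j i) * s j := by
  obtain ⟨c, s, hs, hpw, hcj⟩ := X.exists_lift C hgen hgs hp hcheck
  have hok : D.Q.ok = true := by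
    simp only [Data.check, Bool.and_eq_true] at hcheck
    exact hcheck.1.1.1
  cases c
  · left
    haveI := X.isMulCommutative_ker
    refine exists_complement_of_satPC X.σ X.surj D.Q.m X.card_ker hp (Lift.wf hok) hcard hodd hs ?_
    constructor
    · intro j hj
      rw [hp, pow_two, hpw j hj, cond_false, X.z_zero, one_mul]
    · intro j hj i hi
      rw [hcj j hj i hi, cond_false, X.z_zero, one_mul]
  · exact Or.inr ⟨s, hs, hpw, hcj⟩

end Ext

/-- Two extensions with lifts over a Sylow subgroup with the same tails, the module maps being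
compatible with the conjugation, are isomorphic. -/
theorem nonempty_mulEquiv_of_twist [Finite G] {E : Type*} [Group E] [Finite E]
    {E' : Type*} [Group E'] [Finite E'] (X : Ext D gen gsE E) (X' : Ext D gen gsE E')
    (hconj : ∀ x x', X.σ x = X'.σ x' → ∀ a, a < 2 ^ D.Q.m → ∃ b < 2 ^ D.Q.m,
      x * X.z a * x⁻¹ = X.z b ∧ x' * X'.z a * x'⁻¹ = X'.z b)
    (he : ∀ v, D.e.getD v 0 < 2 ^ D.Q.m) (hp : D.Q.P.p = 2) (hwf : D.Q.P.wf = true)
    (hcard : Nat.card (initGroup gen D.Q.P.n) = 2 ^ D.Q.P.n)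
    (hodd : Odd (initGroup gen D.Q.P.n).index)
    (s : ℕ → E) (hs : ∀ i, X.σ (s i) = gen i)
    (hpw : ∀ j < D.Q.P.n, s j * s j =
      X.z (D.e.getD (PC.pVar j) 0) * evalW s (D.Q.P.powWord j))
    (hcj : ∀ j < D.Q.P.n, ∀ i < j, s j * s i =
      X.z (D.e.getD (PC.cVar j i) 0) * evalW s (D.Q.P.cjWord j i) * s j)
    (s' : ℕ → E') (hs' : ∀ i, X'.σ (s' i) = gen i)
    (hpw' : ∀ j < D.Q.P.n, s' j * s' j =
      X'.z (D.e.getD (PC.pVar j) 0) * evalW s' (D.Q.P.powWord j))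
    (hcj' : ∀ j < D.Q.P.n, ∀ i < j, s' j * s' i =
      X'.z (D.e.getD (PC.cVar j i) 0) * evalW s' (D.Q.P.cjWord j i) * s' j) :
    Nonempty (E ≃* E') := by
  let Y : Subgroup (E × E') :=
    (X.σ.comp (MonoidHom.fst E E')).eqLocus (X'.σ.comp (MonoidHom.snd E E'))
  have memY : ∀ y : E × E', y ∈ Y ↔ X.σ y.1 = X'.σ y.2 := fun _ => Iff.rfl
  let K : Subgroup Y :=
    { carrier := {y | ∃ a < 2 ^ D.Q.m, (y : E × E').1 = X.z a ∧ (y : E × E').2 = X'.z a}
      one_mem' := ⟨0, Nat.two_pow_pos _, X.z_zero.symm, X'.z_zero.symm⟩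
      mul_mem' := by
        rintro u v ⟨a, ha, a1, a2⟩ ⟨b, hb, b1, b2⟩
        exact ⟨a ^^^ b, Nat.xor_lt_two_pow ha hb,
          by rw [Subgroup.coe_mul, Prod.fst_mul, a1, b1, X.z_xor],
          by rw [Subgroup.coe_mul, Prod.snd_mul, a2, b2, X'.z_xor]⟩
      inv_mem' := by
        rintro u ⟨a, ha, a1, a2⟩
        exact ⟨a, ha,
          by rw [Subgroup.coe_inv, Prod.fst_inv, a1, inv_eq_iff_mul_eq_one, X.z_self],
          by rw [Subgroup.coe_inv, Prod.snd_inv, a2, inv_eq_iff_mul_eq_one, X'.z_self]⟩ }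
  haveI hKn : K.Normal := ⟨by
    rintro u ⟨a, ha, a1, a2⟩ g
    obtain ⟨b, hb, b1, b2⟩ := hconj _ _ ((memY _).1 g.2) a ha
    exact ⟨b, hb,
      by rw [Subgroup.coe_mul, Subgroup.coe_mul, Subgroup.coe_inv, Prod.fst_mul, Prod.fst_mul,
        Prod.fst_inv, a1, b1],
      by rw [Subgroup.coe_mul, Subgroup.coe_mul, Subgroup.coe_inv, Prod.snd_mul, Prod.snd_mul,
        Prod.snd_inv, a2, b2]⟩⟩
  let π : Y →* G := (X.σ.comp (MonoidHom.fst E E')).comp Y.subtype
  have hπK : K ≤ π.ker := by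
    rintro u ⟨a, -, a1, -⟩
    show X.σ (u : E × E').1 = 1
    rw [a1, X.z_ker]
  let σD : Y ⧸ K →* G := QuotientGroup.lift K π hπK
  have hσD : ∀ y : Y, σD (QuotientGroup.mk y) = X.σ (y : E × E').1 := fun _ => rfl
  have hpair : ∀ (e : E) (e' : E'), X.σ e = X'.σ e' → ∃ y : Y, (y : E × E') = (e, e') :=
    fun e e' h => ⟨⟨(e, e'), h⟩, rfl⟩
  have hσDsurj : Function.Surjective σD := by
    intro g
    obtain ⟨e, rfl⟩ := X.surj g
    obtain ⟨e', he'⟩ := X'.surj (X.σ e)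
    exact ⟨QuotientGroup.mk ⟨(e, e'), he'.symm⟩, rfl⟩
  have hι : ∀ a, (X.z a, (1 : E')) ∈ Y := fun a => (memY _).2 (by rw [X.z_ker, map_one])
  let ι : ℕ → Y ⧸ K := fun a => QuotientGroup.mk ⟨(X.z a, 1), hι a⟩
  have hιxor : ∀ a b, ι (a ^^^ b) = ι a * ι b := by
    intro a b
    show QuotientGroup.mk _ = QuotientGroup.mk _ * QuotientGroup.mk _
    rw [← QuotientGroup.mk_mul]
    congr 1
    exact Subtype.ext (Prod.ext (X.z_xor a b) (one_mul _).symm)
  have hkerι : ∀ d : Y ⧸ K, σD d = 1 → ∃ a < 2 ^ D.Q.m, ι a = d := by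
    intro d hd
    obtain ⟨y, rfl⟩ := QuotientGroup.mk_surjective d
    have hd1 : X.σ (y : E × E').1 = 1 := hd
    obtain ⟨a, ha, e1⟩ := X.z_surj _ hd1
    obtain ⟨b, hb, e2⟩ := X'.z_surj _ (((memY _).1 y.2).symm.trans hd1)
    refine ⟨a ^^^ b, Nat.xor_lt_two_pow ha hb, ?_⟩
    refine (QuotientGroup.eq).2 ⟨b, hb, ?_, ?_⟩
    · rw [Subgroup.coe_mul, Subgroup.coe_inv, Prod.fst_mul, Prod.fst_inv, ← e1]
      show (X.z (a ^^^ b))⁻¹ * X.z a = X.z b
      rw [inv_mul_eq_iff_eq_mul, ← X.z_xor]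
      congr 1
      rw [Nat.xor_assoc, Nat.xor_self, Nat.xor_zero]
    · rw [Subgroup.coe_mul, Subgroup.coe_inv, Prod.snd_mul, Prod.snd_inv, ← e2]
      show (1 : E')⁻¹ * X'.z b = X'.z b
      rw [inv_one, one_mul]
  haveI : IsMulCommutative σD.ker := ⟨⟨fun u v => by
    obtain ⟨a, -, ha⟩ := hkerι u u.2
    obtain ⟨b, -, hb⟩ := hkerι v v.2
    refine Subtype.ext ?_
    show (u : Y ⧸ K) * v = v * u
    rw [← ha, ← hb, ← hιxor, ← hιxor, Nat.xor_comm]⟩⟩
  have hιker : ∀ a, σD (ι a) = 1 := fun a => X.z_ker a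
  have hkercard : Nat.card σD.ker = 2 ^ D.Q.m := by
    have hbij : Function.Bijective
        (fun a : Fin (2 ^ D.Q.m) => (⟨ι a, hιker a⟩ : σD.ker)) := by
      refine ⟨fun a b h => ?_, fun x => ?_⟩
      · obtain ⟨c, hc, c1, c2⟩ := (QuotientGroup.eq).1 (congrArg Subtype.val h)
        rw [Subgroup.coe_mul, Subgroup.coe_inv, Prod.fst_mul, Prod.fst_inv] at c1
        rw [Subgroup.coe_mul, Subgroup.coe_inv, Prod.snd_mul, Prod.snd_inv] at c2
        change (1 : E')⁻¹ * 1 = _ at c2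
        change (X.z a)⁻¹ * X.z b = _ at c1
        rw [inv_one, one_mul] at c2
        have hc0 := X'.z_inj c hc c2.symm
        rw [hc0, X.z_zero, inv_mul_eq_one] at c1
        exact Fin.ext (X.eq_of_z_eq a.2 b.2 c1)
      · obtain ⟨a, ha, e⟩ := hkerι x x.2
        exact ⟨⟨a, ha⟩, Subtype.ext e⟩
    rw [← Nat.card_eq_of_bijective _ hbij, Nat.card_fin]
  let t : ℕ → Y := fun i => ⟨(s i, s' i), (memY _).2 (by rw [hs, hs'])⟩
  let sd : ℕ → Y ⧸ K := fun i => QuotientGroup.mk (t i)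
  have hevalY : ∀ W, ((evalW t W : Y) : E × E') = (evalW s W, evalW s' W) := by
    intro W
    induction W with
    | nil => rfl
    | cons i W ih => rw [evalW_cons, Subgroup.coe_mul, ih]; rfl
  have hevalD : ∀ W, evalW sd W = QuotientGroup.mk (evalW t W) :=
    fun W => (SchurCert.map_evalW (QuotientGroup.mk' K) t W).symm
  have hKmul : ∀ (a : ℕ), a < 2 ^ D.Q.m → ∀ u v : Y,
      (u : E × E').1 = X.z a * (v : E × E').1 → (u : E × E').2 = X'.z a * (v : E × E').2 →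
      (QuotientGroup.mk u : Y ⧸ K) = QuotientGroup.mk v := by
    intro a ha u v h1 h2
    rw [eq_comm, QuotientGroup.eq]
    have hk : (u * v⁻¹ : Y) ∈ K := ⟨a, ha,
      by rw [Subgroup.coe_mul, Subgroup.coe_inv, Prod.fst_mul, Prod.fst_inv, h1,
        mul_inv_cancel_right],
      by rw [Subgroup.coe_mul, Subgroup.coe_inv, Prod.snd_mul, Prod.snd_inv, h2,
        mul_inv_cancel_right]⟩
    exact hKn.mem_comm hk
  have hsat : SatPC D.Q.P sd := by
    constructor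
    · intro j hj
      rw [hp, pow_two, hevalD]
      show QuotientGroup.mk _ * QuotientGroup.mk _ = _
      rw [← QuotientGroup.mk_mul]
      refine hKmul _ (he (PC.pVar j)) _ _ ?_ ?_
      · rw [hevalY]; exact hpw j hj
      · rw [hevalY]; exact hpw' j hj
    · intro j hj i hi
      rw [hevalD]
      show QuotientGroup.mk _ * QuotientGroup.mk _ = _ * QuotientGroup.mk _
      rw [← QuotientGroup.mk_mul, ← QuotientGroup.mk_mul]
      refine hKmul _ (he (PC.cVar j i)) _ _ ?_ ?_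
      · rw [Subgroup.coe_mul, Subgroup.coe_mul, hevalY, Prod.fst_mul, Prod.fst_mul, ← mul_assoc]
        exact hcj j hj i hi
      · rw [Subgroup.coe_mul, Subgroup.coe_mul, hevalY, Prod.snd_mul, Prod.snd_mul, ← mul_assoc]
        exact hcj' j hj i hi
  obtain ⟨H, hH⟩ := exists_complement_of_satPC σD hσDsurj D.Q.m hkercard hp hwf hcard hodd
    (fun i => (hσD (t i)).trans (hs i)) hsat
  let M : Subgroup Y := H.comap (QuotientGroup.mk' K)
  have hKM : K ≤ M := fun u hu => by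
    show (QuotientGroup.mk u : Y ⧸ K) ∈ H
    rw [(QuotientGroup.eq_one_iff u).2 hu]
    exact one_mem H
  have hker : ∀ y ∈ M, X.σ (y : E × E').1 = 1 → y ∈ K := by
    intro y hy h1
    rw [← QuotientGroup.eq_one_iff]
    have : (QuotientGroup.mk y : Y ⧸ K) ∈ σD.ker ⊓ H :=
      ⟨MonoidHom.mem_ker.2 ((hσD y).trans h1), hy⟩
    rwa [hH.disjoint.eq_bot, Subgroup.mem_bot] at this
  have hdec : ∀ y : Y, ∃ a < 2 ^ D.Q.m, ∃ v ∈ M,
      (y : E × E').1 = X.z a * (v : E × E').1 ∧ (y : E × E').2 = (v : E × E').2 := by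
    intro y
    have h := (hH.sup_eq_top ▸ Subgroup.mem_top (QuotientGroup.mk y : Y ⧸ K) :
      (QuotientGroup.mk y : Y ⧸ K) ∈ σD.ker ⊔ H)
    rw [Subgroup.mem_sup_of_normal_left] at h
    obtain ⟨k, hk, d, hd, e⟩ := h
    obtain ⟨a, ha, rfl⟩ := hkerι k hk
    refine ⟨a, ha, (⟨(X.z a, 1), hι a⟩ : Y)⁻¹ * y, ?_, ?_, ?_⟩
    · show (QuotientGroup.mk _ : Y ⧸ K) ∈ H
      rw [QuotientGroup.mk_mul, QuotientGroup.mk_inv, ← e]
      show (ι a)⁻¹ * (ι a * d) ∈ H
      rwa [inv_mul_cancel_left]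
    · rw [Subgroup.coe_mul, Subgroup.coe_inv, Prod.fst_mul, Prod.fst_inv, mul_inv_cancel_left]
    · rw [Subgroup.coe_mul, Subgroup.coe_inv, Prod.snd_mul, Prod.snd_inv]
      show _ = (1 : E')⁻¹ * _
      rw [inv_one, one_mul]
  let f : M →* E := ((MonoidHom.fst E E').comp Y.subtype).comp M.subtype
  let f' : M →* E' := ((MonoidHom.snd E E').comp Y.subtype).comp M.subtype
  have hf : Function.Bijective f := by
    refine ⟨(injective_iff_map_eq_one f).2 fun y hy => ?_, fun e => ?_⟩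
    · change ((y : Y) : E × E').1 = 1 at hy
      obtain ⟨a, ha, a1, a2⟩ := hker y y.2 (by rw [hy, map_one])
      rw [hy] at a1
      have h0 := X.z_inj a ha a1.symm
      rw [h0, X'.z_zero] at a2
      exact Subtype.ext (Subtype.ext (Prod.ext hy a2))
    · obtain ⟨e', he'⟩ := X'.surj (X.σ e)
      obtain ⟨a, ha, v, hv, h1, -⟩ := hdec ⟨(e, e'), he'.symm⟩
      have hk : (X.z a, X'.z a) ∈ Y := (memY _).2 (by rw [X.z_ker, X'.z_ker])
      refine ⟨⟨⟨(X.z a, X'.z a), hk⟩ * v, M.mul_mem (hKM ⟨a, ha, rfl, rfl⟩) hv⟩, ?_⟩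
      exact h1.symm
  have hf' : Function.Bijective f' := by
    refine ⟨(injective_iff_map_eq_one f').2 fun y hy => ?_, fun e' => ?_⟩
    · change ((y : Y) : E × E').2 = 1 at hy
      obtain ⟨a, ha, a1, a2⟩ := hker y y.2 (by rw [(memY _).1 (y : Y).2, hy, map_one])
      rw [hy] at a2
      have h0 := X'.z_inj a ha a2.symm
      rw [h0, X.z_zero] at a1
      exact Subtype.ext (Subtype.ext (Prod.ext a1 hy))
    · obtain ⟨e, he⟩ := X.surj (X'.σ e')
      obtain ⟨a, ha, v, hv, -, h2⟩ := hdec ⟨(e, e'), he⟩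
      exact ⟨⟨v, hv⟩, h2.symm⟩
  exact ⟨(MulEquiv.ofBijective f hf).symm.trans (MulEquiv.ofBijective f' hf')⟩

end Cfsg.Agent.ExtCert
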