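import Cfsg.Agent.ExtCert.Cert
import Cfsg.Agent.SchurCert.M23Trivial
import Cfsg.Agent.Golay.Code

set_option autoImplicit false

/-!
The permutation action of listed elements of M23 on masks, and the Sylow subgroup of order 128.
-/

namespace Cfsg.Agent.ExtCert

open Cfsg
open Cfsg.Agent.Golay
open Cfsg.Agent.SchurCert (getC validPair permOfPair permOfPair_apply permOne codeFun elemAt
  initGroup permCode ptIdx_ptOf)

/-- The image of a mask under a code. -/
def imgMask (q b : ℕ) : ℕ :=
  (List.range 24).foldr (fun i acc => bif b.testBit i then acc ||| 2 ^ getC q i else acc) 0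

/-- The image is right. -/
def imgOK (q b : ℕ) : Bool :=
  (List.range 24).all fun i => (imgMask q b).testBit (getC q i) == b.testBit i

theorem ofBits_comp {x : ℕ × ℕ} (hv : validPair x = true) {b : ℕ} (h : imgOK x.1 b = true) :
    ofBits b ∘ ⇑(permOfPair x)⁻¹ = ofBits (imgMask x.1 b) := by
  simp only [imgOK, List.all_eq_true, List.mem_range, beq_iff_eq] at h
  funext p
  obtain ⟨p', rfl⟩ := (permOfPair x).surjective p
  rw [Function.comp_apply, Equiv.Perm.inv_def, Equiv.symm_apply_apply, permOfPair_apply hv, codeFun]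
  simp only [SchurCert.validPair, Bool.and_eq_true, List.all_eq_true, List.mem_range,
    Nat.blt_eq] at hv
  simp only [ofBits, ptIdx_ptOf _ (hv.1 _ (ptIdx_lt p')).1.1.1, h _ (ptIdx_lt p')]

/-- A matrix describes the action of a code on the span of masks, up to the words that pass
the test. -/
def matOK (good : ℕ → Bool) (q : ℕ) (B M : List ℕ) : Bool :=
  Nat.beq B.length M.length &&
    (B.zip M).all fun p => imgOK q p.1 && good (imgMask q p.1 ^^^ xorSel B p.2)

theorem act_sel (K : Submodule (ZMod 2) (GolayPt → ZMod 2)) (e : GolayPt → GolayPt)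
    (B : List ℕ) : ∀ (L M : List ℕ), L.length = M.length →
      (∀ p ∈ L.zip M, ofBits p.1 ∘ e + ofBits (xorSel B p.2) ∈ K) →
      ∀ a, ofBits (xorSel L a) ∘ e + ofBits (xorSel B (xorSel M a)) ∈ K
  | [], [], _, _, a => by
    have h0 : ofBits 0 ∘ e = 0 := by rw [ofBits_zero]; rfl
    simp [xorSel, h0, show ∀ B : List ℕ, xorSel B 0 = 0 from xorSel_zero]
  | [], _ :: _, h, _, _ => by simp at h
  | _ :: _, [], h, _, _ => by simp at h
  | b :: L, r :: M, hl, h, a => by
    have ih := act_sel K e B L M (by simpa using hl)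
      (fun p hp => h p (List.mem_cons_of_mem _ hp)) (a / 2)
    have h1 := h (b, r) List.mem_cons_self
    rw [xorSel, xorSel, xorSel_xor, ofBits_xor, ofBits_xor]
    cases a.testBit 0
    · simpa [cond_false] using ih
    · simp only [cond_true]
      have := K.add_mem h1 ih
      convert this using 1
      funext p
      simp only [Pi.add_apply, Function.comp_apply]
      ring

theorem act_of_matOK (K : Submodule (ZMod 2) (GolayPt → ZMod 2)) {good : ℕ → Bool}
    (hgood : ∀ x, good x = true → ofBits x ∈ K) {x : ℕ × ℕ} (hv : validPair x = true)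
    {B M : List ℕ} (h : matOK good x.1 B M = true) (a : ℕ) :
    ofBits (xorSel B a) ∘ ⇑(permOfPair x)⁻¹ + ofBits (xorSel B (xorSel M a)) ∈ K := by
  simp only [matOK, Bool.and_eq_true, List.all_eq_true] at h
  refine act_sel K _ B B M (Nat.eq_of_beq_eq_true h.1) (fun p hp => ?_) a
  obtain ⟨h1, h2⟩ := h.2 p hp
  rw [ofBits_comp hv h1, ← ofBits_xor]
  exact hgood _ h2

/-- The listed generators of the Sylow subgroup. -/
noncomputable def m23Gen (i : ℕ) : Cfsg.Spor.M23 := elemAt Cfsg.Spor.M23 SchurCert.m23TwoGens i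

theorem coe_elemAt {H : Subgroup (Equiv.Perm GolayPt)} {L : List (ℕ × ℕ)}
    (hmem : ∀ x ∈ L, permOfPair x ∈ H) (i : ℕ) :
    (elemAt H L i : Equiv.Perm GolayPt) = permOfPair (L.getD i (permOne, permOne)) := by
  have hin : permOfPair (L.getD i (permOne, permOne)) ∈ H := by
    rw [List.getD_eq_getElem?_getD]
    cases hi : L[i]? with
    | none => simp [SchurCert.permOfPair_one]
    | some x => exact hmem x (List.mem_of_getElem? hi)
  rw [elemAt, dif_pos hin]

theorem valid_getD {L : List (ℕ × ℕ)} (hv : L.all validPair = true) (i : ℕ) :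
    validPair (L.getD i (permOne, permOne)) = true := by
  rw [List.getD_eq_getElem?_getD]
  cases hi : L[i]? with
  | none => decide +kernel
  | some x => exact List.all_eq_true.1 hv x (List.mem_of_getElem? hi)

theorem twoGens_valid : SchurCert.m23TwoGens.all validPair = true := by decide +kernel

theorem twoGens_mem : ∀ x ∈ SchurCert.m23TwoGens, permOfPair x ∈ Cfsg.Spor.M23 :=
  fun x hx => SchurCert.m23_mem x
    (List.mem_append_left _ (List.mem_append_left _ (List.mem_append_left _ hx)))

theorem mem_M23_of_test {x : ℕ × ℕ} (hv : validPair x = true)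
    (hr : PreservesRows (codeFun x.1)) (h0 : codeFun x.1 none = none) :
    permOfPair x ∈ Cfsg.Spor.M23 :=
  ⟨SchurCert.permOfPair_mem_M24 hv hr,
    MulAction.mem_stabilizer_iff.2 ((permOfPair_apply hv _).trans h0)⟩

theorem enc_m23Gen (i : ℕ) :
    (permCode Cfsg.Spor.M23).enc (m23Gen i) = (SchurCert.m23TwoGens.map Prod.fst).getD i permOne :=
  SchurCert.enc_elemAt twoGens_valid twoGens_mem i

/-- The Sylow subgroup has order 128 and odd index. -/
theorem sylow_card_index :
    Nat.card (initGroup m23Gen SchurCert.m23TwoCert.P.n) = 2 ^ 7 ∧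
      Odd (initGroup m23Gen SchurCert.m23TwoCert.P.n).index := by
  have hchk := SchurCert.m23Two_check
  simp only [SchurCert.Cert.check, Bool.and_eq_true] at hchk
  obtain ⟨-, hcard⟩ := SchurCert.card_initGroup_of_groupOK (permCode Cfsg.Spor.M23)
    SchurCert.m23TwoCert Nat.prime_two m23Gen (fun i _ => enc_m23Gen i) hchk.1.1.1 hchk.1.1.2
  refine ⟨hcard, ?_⟩
  rw [SchurCert.index_initGroup SchurCert.m23_card hcard (m := 79695) (by decide +kernel)]
  decide

end Cfsg.Agent.ExtCert
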