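import Cfsg.Agent.ExtCert.M23CocodeCheck
import Cfsg.Agent.ExtCert.M23Common
import Cfsg.Agent.ExtCert.Glue

set_option autoImplicit false

/-!
The cocode module of M23: two non-split extensions with the cocode module are isomorphic.
-/

namespace Cfsg.Agent.ExtCert

open Cfsg
open Cfsg.Agent.Golay
open Cfsg.Agent.SchurCert (permOne elemAt permOfPair codeFun validPair permCode)

/-- The words of the code and its translate by the unit word at the extra point. -/
noncomputable def cocodeKer : Submodule (ZMod 2) (GolayPt → ZMod 2) :=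
  golayCode ⊔ Submodule.span (ZMod 2) {Pi.single none 1}

theorem single_none_eq : (Pi.single none 1 : GolayPt → ZMod 2) = ofBits (2 ^ 23) := by
  funext p
  revert p
  decide +kernel

theorem mem_cocodeKer_iff (w : GolayPt → ZMod 2) :
    w ∈ cocodeKer ↔ (w ∈ golayCode ∨ w + Pi.single none 1 ∈ golayCode) := by
  rw [cocodeKer, Submodule.mem_sup]
  constructor
  · rintro ⟨u, hu, v, hv, rfl⟩
    rw [Submodule.mem_span_singleton] at hv
    obtain ⟨c, rfl⟩ := hv
    have hc : ∀ d : ZMod 2, d = 0 ∨ d = 1 := by decide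
    rcases hc c with rfl | rfl
    · left; rwa [zero_smul, add_zero]
    · right
      rw [one_smul, add_assoc, CharTwo.add_self_eq_zero (Pi.single none 1 : GolayPt → ZMod 2),
        add_zero]
      exact hu
  · rintro (h | h)
    · exact ⟨w, h, 0, zero_mem _, add_zero _⟩
    · exact ⟨_, h, _, Submodule.mem_span_singleton_self _, by
        rw [add_assoc, CharTwo.add_self_eq_zero (Pi.single none 1 : GolayPt → ZMod 2), add_zero]⟩

/-- The test for a mask of a word of the kernel. -/
def cocodeGood (x : ℕ) : Bool :=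
  Nat.beq (x ^^^ enc (x % 4096)) 0 || Nat.beq (x ^^^ enc (x % 4096)) (2 ^ 23)

theorem ofBits_mem_cocodeKer {x : ℕ} (h : cocodeGood x = true) : ofBits x ∈ cocodeKer := by
  have hx : ofBits x = ofBits (enc (x % 4096)) + ofBits (x ^^^ enc (x % 4096)) := by
    rw [← ofBits_xor]
    congr 1
    rw [Nat.xor_comm x, ← Nat.xor_assoc, Nat.xor_self, Nat.zero_xor]
  rw [hx]
  refine add_mem (Submodule.mem_sup_left (ofBits_enc_mem _)) ?_
  simp only [cocodeGood, Bool.or_eq_true] at h
  rcases h with h | h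
  · rw [Nat.eq_of_beq_eq_true h, ofBits_zero]; exact zero_mem _
  · rw [Nat.eq_of_beq_eq_true h, ← single_none_eq]
    exact Submodule.mem_sup_right (Submodule.mem_span_singleton_self _)

theorem exists_eq_ofBits (w : GolayPt → ZMod 2) : ∃ x < 2 ^ 24, w = ofBits x := by
  have hb : Function.Bijective (fun x : Fin (2 ^ 24) => ofBits x) := by
    rw [Nat.bijective_iff_injective_and_card]
    refine ⟨fun a b h => Fin.ext (ofBits_inj a.2 b.2 h), ?_⟩
    rw [Nat.card_fin, Nat.card_fun, Nat.card_zmod, Nat.card_congr ptEquiv, Nat.card_fin]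
  obtain ⟨x, hx⟩ := hb.2 w
  exact ⟨x, x.2, hx.symm⟩

theorem cocode_red :
    check4096 (fun h => Nat.beq (4096 * h ^^^ xorSel cocodeBas (h % 2048)) 0 ||
      Nat.beq (4096 * h ^^^ xorSel cocodeBas (h % 2048)) (2 ^ 23)) = true := by
  decide +kernel

theorem cocode_unit :
    check4096 (fun h => Nat.beq (xorSel cocodeBas (h % 2048)) (4096 * (h % 2048))) = true := by
  decide +kernel

theorem cocode_rep (w : GolayPt → ZMod 2) :
    ∃ a < 2 ^ 11, w + ofBits (xorSel cocodeBas a) ∈ cocodeKer := by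
  obtain ⟨x, hx, rfl⟩ := exists_eq_ofBits w
  set y := x ^^^ enc (x % 4096) with hy
  have hylt : y < 2 ^ 24 := Nat.xor_lt_two_pow hx (enc_lt (Nat.mod_lt _ (by norm_num)))
  have hylow : y % 4096 = 0 := by
    rw [hy, show (4096 : ℕ) = 2 ^ 12 by norm_num, Nat.xor_mod_two_pow,
      show (2 : ℕ) ^ 12 = 4096 by norm_num, (enc_low (Nat.mod_lt x (by norm_num))).1, Nat.xor_self]
  refine ⟨y / 4096 % 2048, Nat.mod_lt _ (by norm_num), ?_⟩
  have h := of_check4096 cocode_red (k := y / 4096) (by omega)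
  rw [show 4096 * (y / 4096) = y by omega] at h
  have hxy : ofBits x + ofBits (xorSel cocodeBas (y / 4096 % 2048)) =
      ofBits (enc (x % 4096)) + ofBits (y ^^^ xorSel cocodeBas (y / 4096 % 2048)) := by
    rw [← ofBits_xor, ← ofBits_xor, ← Nat.xor_assoc]
    congr 2
    rw [hy, Nat.xor_comm x, ← Nat.xor_assoc, Nat.xor_self, Nat.zero_xor]
  rw [hxy]
  refine add_mem (Submodule.mem_sup_left (ofBits_enc_mem _)) ?_
  rw [Bool.or_eq_true] at h
  rcases h with h | h
  · rw [Nat.eq_of_beq_eq_true h, ofBits_zero]; exact zero_mem _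
  · rw [Nat.eq_of_beq_eq_true h, ← single_none_eq]
    exact Submodule.mem_sup_right (Submodule.mem_span_singleton_self _)

theorem cocode_inj {a : ℕ} (ha : a < 2 ^ 11) (h : ofBits (xorSel cocodeBas a) ∈ cocodeKer) :
    a = 0 := by
  have hu := Nat.eq_of_beq_eq_true (of_check4096 cocode_unit (k := a) (by omega))
  rw [Nat.mod_eq_of_lt (show a < 2048 by omega)] at hu
  rw [hu, mem_cocodeKer_iff] at h
  have key : ∀ e : ℕ, e % 4096 = 0 → e < 2 ^ 24 → ofBits (4096 * a ^^^ e) ∈ golayCode →
      4096 * a = e := by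
    intro e he helt hm
    obtain ⟨k, hk, hk'⟩ := (mem_golayCode_iff _).1 hm
    have h2 := ofBits_inj (Nat.xor_lt_two_pow (show 4096 * a < 2 ^ 24 by omega) helt) (enc_lt hk) hk'
    have h3 : (4096 * a ^^^ e) % 4096 = 0 := by
      rw [show (4096 : ℕ) = 2 ^ 12 by norm_num, Nat.xor_mod_two_pow,
        show (2 : ℕ) ^ 12 = 4096 by norm_num, Nat.mul_mod_right, he, Nat.xor_self]
    rw [h2, (enc_low hk).1] at h3
    subst h3
    exact Nat.xor_eq_zero_iff.1 (h2.trans (by decide +kernel))
  rcases h with h | h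
  · have := key 0 rfl (by norm_num) (by rwa [Nat.xor_zero])
    omega
  · have := key (2 ^ 23) (by norm_num) (by norm_num) (by rwa [ofBits_xor, ← single_none_eq])
    omega

theorem cocodeFus_valid : cocodeFus.all validPair = true := by decide +kernel

theorem cocodeFus_tested : ∀ x ∈ cocodeFus,
    PreservesRows (codeFun x.1) ∧ codeFun x.1 none = none := by
  decide +kernel

theorem cocodeFus_mem : ∀ x ∈ cocodeFus, permOfPair x ∈ Cfsg.Spor.M23 := fun x hx =>
  mem_M23_of_test (List.all_eq_true.1 cocodeFus_valid x hx) (cocodeFus_tested x hx).1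
    (cocodeFus_tested x hx).2

/-- The listed fusing elements. -/
noncomputable def cocodeGs (i : ℕ) : Cfsg.Spor.M23 := elemAt Cfsg.Spor.M23 cocodeFus i

theorem cocode_mats :
    (List.range 7).all (fun k => matOK cocodeGood
      (SchurCert.m23TwoGens.getD k (permOne, permOne)).1 cocodeBas (cocodeData.Q.mat k)) = true ∧
    (List.range cocodeData.fus.length).all (fun r => matOK cocodeGood
      (cocodeFus.getD (cocodeData.fusAt r).g (permOne, permOne)).1 cocodeBas
      (cocodeData.gmats.getD (cocodeData.fusAt r).g [])) = true := by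
  decide +kernel

theorem cocode_e : cocodeData.e.all (fun x => Nat.blt x (2 ^ 11)) = true := by decide +kernel

theorem cocode_e_lt (v : ℕ) : cocodeData.e.getD v 0 < 2 ^ 11 := by
  rw [List.getD_eq_getElem?_getD]
  cases hv : cocodeData.e[v]? with
  | none => exact Nat.two_pow_pos _
  | some x =>
    have h := List.all_eq_true.1 cocode_e x (List.mem_of_getElem? hv)
    rw [Nat.blt_eq] at h
    exact h

section

variable {E : Type*} [Group E] (N : Subgroup E) [hN : N.Normal]
    (φ : E ⧸ N ≃* ↥Cfsg.Spor.M23) (θ : (Cfsg.GolayPt → ZMod 2) →+ Additive ↥N)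
    (hsurj : Function.Surjective θ)
    (hker : ∀ w : Cfsg.GolayPt → ZMod 2,
      θ w = 0 ↔ (w ∈ Cfsg.golayCode ∨ w + Pi.single none 1 ∈ Cfsg.golayCode))
    (hθ : ∀ (g : E) (w : Cfsg.GolayPt → ZMod 2),
      ((θ (w ∘ ⇑(((φ (QuotientGroup.mk g) : ↥Cfsg.Spor.M23) : Equiv.Perm Cfsg.GolayPt)⁻¹))).toMul : E)
        = g * ((θ w).toMul : E) * g⁻¹)

/-- The element of the extension given by a vector. -/
noncomputable def cocodeZ (a : ℕ) : E := ((θ (ofBits (xorSel cocodeBas a))).toMul : E)

include hker in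
theorem theta_eq {u v : GolayPt → ZMod 2} (h : u + v ∈ cocodeKer) : θ u = θ v := by
  have h1 : θ (u - v) = 0 := by
    rw [CharTwo.sub_eq_add]
    exact (hker _).2 ((mem_cocodeKer_iff _).1 h)
  rwa [map_sub, sub_eq_zero] at h1

include hsurj hker hθ in
theorem exists_cocodeExt :
    ∃ X : Ext cocodeData m23Gen cocodeGs E,
      X.σ = φ.toMonoidHom.comp (QuotientGroup.mk' N) ∧ X.z = cocodeZ N θ ∧ X.σ.ker = N := by
  have hkerσ : (φ.toMonoidHom.comp (QuotientGroup.mk' N)).ker = N := by
    ext x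
    rw [MonoidHom.mem_ker, MonoidHom.comp_apply, QuotientGroup.mk'_apply,
      MulEquiv.coe_toMonoidHom, MulEquiv.map_eq_one_iff, QuotientGroup.eq_one_iff]
  have hact : ∀ (x : E) (p : ℕ × ℕ) (M : List ℕ), validPair p = true →
      (((φ (QuotientGroup.mk x) : ↥Cfsg.Spor.M23) : Equiv.Perm GolayPt)) = permOfPair p →
      matOK cocodeGood p.1 cocodeBas M = true →
      ∀ a, x * cocodeZ N θ a = cocodeZ N θ (xorSel M a) * x := by
    intro x p M hv hp hm a
    have h := act_of_matOK cocodeKer (fun y hy => ofBits_mem_cocodeKer hy) hv hm a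
    have h1 := hθ x (ofBits (xorSel cocodeBas a))
    rw [hp, theta_eq N θ hker h] at h1
    simp only [cocodeZ]
    rw [h1, inv_mul_cancel_right]
  refine ⟨{
    σ := φ.toMonoidHom.comp (QuotientGroup.mk' N)
    surj := φ.surjective.comp (QuotientGroup.mk'_surjective N)
    z := cocodeZ N θ
    z_xor := fun a b => by
      simp only [cocodeZ, xorSel_xor, ofBits_xor, map_add, toMul_add, Subgroup.coe_mul]
    z_ker := fun a => by
      rw [← MonoidHom.mem_ker, hkerσ]
      exact Subtype.coe_prop _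
    z_inj := fun a ha h => by
      refine cocode_inj ha ((mem_cocodeKer_iff _).2 ((hker _).1 ?_))
      apply Additive.toMul.injective
      exact Subtype.ext h
    z_surj := fun x hx => ?_
    act_gen := fun k hk x hx => ?_
    act_gs := fun r hr x hx => ?_ }, rfl, rfl, hkerσ⟩
  · have hxN : x ∈ N := by rw [← hkerσ]; exact hx
    obtain ⟨w, hw⟩ := hsurj (Additive.ofMul ⟨x, hxN⟩)
    obtain ⟨a, ha, h⟩ := cocode_rep w
    refine ⟨a, ha, ?_⟩
    simp only [cocodeZ]
    rw [← theta_eq N θ hker h, hw]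
    rfl
  · refine hact x (SchurCert.m23TwoGens.getD k (permOne, permOne)) _ (valid_getD twoGens_valid k)
      ?_ (List.all_eq_true.1 cocode_mats.1 k (List.mem_range.2 hk))
    rw [← coe_elemAt twoGens_mem k]
    exact congrArg Subtype.val hx
  · refine hact x (cocodeFus.getD (cocodeData.fusAt r).g (permOne, permOne)) _
      (valid_getD cocodeFus_valid _) ?_ (List.all_eq_true.1 cocode_mats.2 r (List.mem_range.2 hr))
    rw [← coe_elemAt cocodeFus_mem _]
    exact congrArg Subtype.val hx

end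

/-- A non-split extension has lifts with the fixed cocycle as tails. -/
theorem cocode_twist {E : Type*} [Group E] [Finite E] (N : Subgroup E)
    (X : Ext cocodeData m23Gen cocodeGs E) (hXN : X.σ.ker = N)
    (hns : ∀ H : Subgroup E, H ⊓ N = ⊥ → H ⊔ N ≠ ⊤) :
    ∃ s : ℕ → E, (∀ i, X.σ (s i) = m23Gen i) ∧
      (∀ j < cocodeData.Q.P.n, s j * s j = X.z (cocodeData.e.getD (SchurCert.PC.pVar j) 0) *
        SchurCert.evalW s (cocodeData.Q.P.powWord j)) ∧
      ∀ j < cocodeData.Q.P.n, ∀ i < j, s j * s i =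
        X.z (cocodeData.e.getD (SchurCert.PC.cVar j i) 0) *
          SchurCert.evalW s (cocodeData.Q.P.cjWord j i) * s j := by
  haveI : Finite Cfsg.Spor.M23 := Finite.of_surjective X.σ X.surj
  rcases X.complement_or_twist (permCode Cfsg.Spor.M23) (fun i _ => enc_m23Gen i)
    (fun i => SchurCert.enc_elemAt cocodeFus_valid cocodeFus_mem i) rfl cocode_check
    sylow_card_index.1 sylow_card_index.2 with ⟨H, hH⟩ | h
  · rw [hXN] at hH
    exact absurd (by rw [sup_comm]; exact hH.sup_eq_top)
      (hns H (by rw [inf_comm]; exact hH.disjoint.eq_bot))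
  · exact h

end Cfsg.Agent.ExtCert
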