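import Cfsg.Agent.ExtCert.M23CocodeData

set_option autoImplicit false

/-!
The kernel evaluation of the certificate.
-/

namespace Cfsg.Agent.ExtCert

open Cfsg.Agent.SchurCert (permMul permOne)

theorem cocode_ok : cocodeData.Q.ok = true := by decide +kernel

theorem cocode_group : cocodeData.groupPart.groupOK permMul permOne = true := by decide +kernel

theorem cocode_rows : cocodeData.rowsOK permMul permOne = true := by decide +kernel

theorem cocode_lin : cocodeData.linOK = true := by decide +kernel

theorem cocode_check : cocodeData.check permMul permOne = true := by
  simp only [Data.check, cocode_ok, cocode_group, cocode_rows, cocode_lin, Bool.and_self]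

end Cfsg.Agent.ExtCert
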