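import Cfsg.Agent.ExtCert.M23CodeCheck
import Cfsg.Agent.ExtCert.M23Common

set_option autoImplicit false

/-!
The code module of M23: extensions with the code module split.
-/

namespace Cfsg.Agent.ExtCert

open Cfsg
open Cfsg.Agent.Golay
open Cfsg.Agent.SchurCert (permOne elemAt permOfPair codeFun validPair SatPC permCode PC evalW)

/-- The coordinates of a word of the module. -/
def codeDec (x : ℕ) : ℕ := x % 4096 / 2

theorem codeBas_left :
    (List.range 32).all (fun a => (List.range 64).all fun b =>
      Nat.beq (codeDec (xorSel codeBas (64 * a + b))) (64 * a + b) &&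
        Nat.beq (enc (xorSel codeBas (64 * a + b) % 4096)) (xorSel codeBas (64 * a + b))) = true := by
  decide +kernel

theorem codeBas_right :
    check4096 (fun k => (enc k).testBit 23 || Nat.beq (xorSel codeBas (codeDec (enc k))) (enc k)) =
      true := by
  decide +kernel

theorem codeBas_rows : ∀ r ∈ codeBas, r.testBit 23 = false ∧ enc (r % 4096) = r := by decide +kernel

/-- The words of the code vanishing at the extra point. -/
noncomputable def codeZero : Submodule (ZMod 2) (GolayPt → ZMod 2) :=
  golayCode ⊓ LinearMap.ker (LinearMap.proj none)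

theorem codeBas_mem (a : ℕ) :
    ofBits (xorSel codeBas a) ∈ golayCode ∧ ofBits (xorSel codeBas a) none = 0 := by
  have h : ofBits (xorSel codeBas a) ∈ codeZero := by
    refine ofBits_xorSel_mem _ _ (fun r hr => ?_) a
    obtain ⟨h1, h2⟩ := codeBas_rows r hr
    refine ⟨?_, ?_⟩
    · rw [← h2]; exact ofBits_enc_mem _
    · simp [ofBits, ptIdx, h1]
  exact ⟨h.1, by simpa using h.2⟩

theorem codeBas_surj {w : GolayPt → ZMod 2} (hw : w ∈ golayCode) (h0 : w none = 0) :
    ∃ a < 2 ^ 11, ofBits (xorSel codeBas a) = w := by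
  obtain ⟨k, hk, rfl⟩ := (mem_golayCode_iff w).1 hw
  have h := of_check4096 codeBas_right hk
  have h23 : (enc k).testBit 23 = false := by
    cases hb : (enc k).testBit 23
    · rfl
    · simp [ofBits, ptIdx, hb] at h0
  rw [h23, Bool.false_or] at h
  exact ⟨codeDec (enc k), by simp only [codeDec]; omega, by rw [Nat.eq_of_beq_eq_true h]⟩

theorem codeBas_inj {a : ℕ} (ha : a < 2 ^ 11) (h : ofBits (xorSel codeBas a) = 0) : a = 0 := by
  have h1 := codeBas_left
  simp only [List.all_eq_true, List.mem_range, Bool.and_eq_true] at h1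
  obtain ⟨h2, h3⟩ := h1 (a / 64) (by omega) (a % 64) (by omega)
  rw [Nat.div_add_mod] at h2 h3
  have h2' := Nat.eq_of_beq_eq_true h2
  have h3' := Nat.eq_of_beq_eq_true h3
  rw [← h3', ← ofBits_zero] at h
  have h4 := ofBits_inj (enc_lt (Nat.mod_lt _ (by norm_num))) (by norm_num) h
  rw [h3'] at h4
  rw [h4] at h2'
  exact h2'.symm.trans (by simp [codeDec])

theorem codeFus_valid : codeFus.all validPair = true := by decide +kernel

theorem codeFus_tested : ∀ x ∈ codeFus,
    PreservesRows (codeFun x.1) ∧ codeFun x.1 none = none := by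
  decide +kernel

theorem codeFus_mem : ∀ x ∈ codeFus, permOfPair x ∈ Cfsg.Spor.M23 := fun x hx =>
  mem_M23_of_test (List.all_eq_true.1 codeFus_valid x hx) (codeFus_tested x hx).1
    (codeFus_tested x hx).2

/-- The listed fusing elements. -/
noncomputable def codeGs (i : ℕ) : Cfsg.Spor.M23 := elemAt Cfsg.Spor.M23 codeFus i

theorem code_mats :
    (List.range 7).all (fun k => matOK (fun x => Nat.beq x 0)
      (SchurCert.m23TwoGens.getD k (permOne, permOne)).1 codeBas (codeData.Q.mat k)) = true ∧
    (List.range codeData.fus.length).all (fun r => matOK (fun x => Nat.beq x 0)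
      (codeFus.getD (codeData.fusAt r).g (permOne, permOne)).1 codeBas
      (codeData.gmats.getD (codeData.fusAt r).g [])) = true := by
  decide +kernel

theorem code_e : codeData.e.all (fun x => Nat.beq x 0) = true := by decide +kernel

section

variable {E : Type*} [Group E] (N : Subgroup E) [hN : N.Normal]
    (φ : E ⧸ N ≃* ↥Cfsg.Spor.M23)
    (ψ : Additive ↥N →+ (Cfsg.GolayPt → ZMod 2)) (hinj : Function.Injective ψ)
    (hrange : ∀ w : Cfsg.GolayPt → ZMod 2, w ∈ Set.range ψ ↔ (w ∈ Cfsg.golayCode ∧ w none = 0))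
    (hψ : ∀ (g : E) (n : ↥N),
      ψ (Additive.ofMul ⟨g * n * g⁻¹, hN.conj_mem n n.2 g⟩)
        = ψ (Additive.ofMul n) ∘
            ⇑(((φ (QuotientGroup.mk g) : ↥Cfsg.Spor.M23) : Equiv.Perm Cfsg.GolayPt)⁻¹))

include hinj hrange hψ in
theorem exists_codeExt :
    ∃ X : Ext codeData m23Gen codeGs E, X.σ = φ.toMonoidHom.comp (QuotientGroup.mk' N) := by
  have hex : ∀ a, ∃ n : N, ψ (Additive.ofMul n) = ofBits (xorSel codeBas a) := by
    intro a
    obtain ⟨v, hv⟩ := (hrange _).2 (codeBas_mem a)
    exact ⟨Additive.toMul v, hv⟩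
  choose n hn using hex
  have heq : ∀ u v : N, ψ (Additive.ofMul u) = ψ (Additive.ofMul v) → u = v := fun u v h => by
    simpa using hinj h
  have hxor : ∀ a b, n (a ^^^ b) = n a * n b := fun a b => heq _ _ (by
    rw [ofMul_mul, map_add, hn, hn, hn, xorSel_xor, ofBits_xor])
  have h0 : n 0 = 1 := heq _ _ (by rw [hn, xorSel_zero, ofBits_zero, ofMul_one, map_zero])
  have hact : ∀ (x : E) (p : ℕ × ℕ) (M : List ℕ), validPair p = true →
      (((φ (QuotientGroup.mk x) : ↥Cfsg.Spor.M23) : Equiv.Perm GolayPt)) = permOfPair p →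
      matOK (fun y => Nat.beq y 0) p.1 codeBas M = true →
      ∀ a, x * (n a : E) = (n (xorSel M a) : E) * x := by
    intro x p M hv hp hm a
    have h := act_of_matOK ⊥ (fun y hy => by
      rw [Nat.eq_of_beq_eq_true hy, ofBits_zero]; exact zero_mem _) hv hm a
    have hc : (⟨x * n a * x⁻¹, hN.conj_mem _ (n a).2 x⟩ : N) = n (xorSel M a) := by
      apply heq
      rw [hψ, hn, hn, hp]
      rw [Submodule.mem_bot] at h
      funext q
      have hq := congrFun h q
      simp only [Pi.add_apply, Pi.zero_apply] at hq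
      exact (CharTwo.add_eq_zero.1 hq)
    have := congrArg Subtype.val hc
    simp only at this
    rw [← this, inv_mul_cancel_right]
  refine ⟨{
    σ := φ.toMonoidHom.comp (QuotientGroup.mk' N)
    surj := φ.surjective.comp (QuotientGroup.mk'_surjective N)
    z := fun a => (n a : E)
    z_xor := fun a b => by rw [hxor]; rfl
    z_ker := fun a => by
      rw [MonoidHom.comp_apply, QuotientGroup.mk'_apply, (QuotientGroup.eq_one_iff _).2 (n a).2,
        map_one]
    z_inj := fun a ha h => by
      refine codeBas_inj ha ?_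
      rw [← hn, show n a = 1 from Subtype.ext h, ofMul_one, map_zero]
    z_surj := fun x hx => ?_
    act_gen := fun k hk x hx => ?_
    act_gs := fun r hr x hx => ?_ }, rfl⟩
  · have hxN : x ∈ N := by
      rw [← QuotientGroup.eq_one_iff]
      exact φ.injective (hx.trans (map_one φ).symm)
    obtain ⟨hw, hw0⟩ := (hrange _).1 ⟨Additive.ofMul (⟨x, hxN⟩ : N), rfl⟩
    obtain ⟨a, ha, e⟩ := codeBas_surj hw hw0
    refine ⟨a, ha, ?_⟩
    rw [show n a = ⟨x, hxN⟩ from heq _ _ (by rw [hn, e])]
  · refine hact x (SchurCert.m23TwoGens.getD k (permOne, permOne)) _ (valid_getD twoGens_valid k)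
      ?_ (List.all_eq_true.1 code_mats.1 k (List.mem_range.2 hk))
    rw [← coe_elemAt twoGens_mem k]
    exact congrArg Subtype.val hx
  · refine hact x (codeFus.getD (codeData.fusAt r).g (permOne, permOne)) _
      (valid_getD codeFus_valid _) ?_ (List.all_eq_true.1 code_mats.2 r (List.mem_range.2 hr))
    rw [← coe_elemAt codeFus_mem _]
    exact congrArg Subtype.val hx

end

/-- An extension by the code module has a complement. -/
theorem code_split {E : Type*} [Group E] [Finite E] (X : Ext codeData m23Gen codeGs E) :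
    ∃ H : Subgroup E, Subgroup.IsComplement' X.σ.ker H := by
  haveI : Finite Cfsg.Spor.M23 := Finite.of_surjective X.σ X.surj
  obtain ⟨c, s, hs, hpw, hcj⟩ := X.exists_lift (permCode Cfsg.Spor.M23)
    (fun i _ => enc_m23Gen i) (fun i => SchurCert.enc_elemAt codeFus_valid codeFus_mem i)
    rfl code_check
  have he : ∀ v, codeData.e.getD v 0 = 0 := by
    intro v
    rw [List.getD_eq_getElem?_getD]
    cases hv : codeData.e[v]? with
    | none => rfl
    | some x => exact Nat.eq_of_beq_eq_true (List.all_eq_true.1 code_e x (List.mem_of_getElem? hv))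
  have hz : X.z 0 = 1 := by
    have h := X.z_xor 0 0
    rw [Nat.xor_self] at h
    exact (mul_eq_left.1 h.symm)
  have hsat : SatPC codeData.Q.P s := by
    constructor
    · intro j hj
      rw [show codeData.Q.P.p = 2 from rfl, pow_two, hpw j hj, he]
      cases c <;> simp [hz]
    · intro j hj i hi
      rw [hcj j hj i hi, he]
      cases c <;> simp [hz]
  haveI : IsMulCommutative X.σ.ker := ⟨⟨fun u v => by
    obtain ⟨a, -, ha⟩ := X.z_surj u u.2
    obtain ⟨b, -, hb⟩ := X.z_surj v v.2
    refine Subtype.ext ?_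
    show (u : E) * v = v * u
    rw [← ha, ← hb, ← X.z_xor, ← X.z_xor, Nat.xor_comm]⟩⟩
  have hker : Nat.card X.σ.ker = 2 ^ 11 := by
    have hbij : Function.Bijective
        (fun a : Fin (2 ^ 11) => (⟨X.z a, X.z_ker a⟩ : X.σ.ker)) := by
      refine ⟨fun a b h => ?_, fun x => ?_⟩
      · have h' : X.z a = X.z b := congrArg Subtype.val h
        have h0 := X.z_inj ((a : ℕ) ^^^ b) (Nat.xor_lt_two_pow a.2 b.2)
          (by rw [X.z_xor, h', ← X.z_xor, Nat.xor_self, hz])
        exact Fin.ext (Nat.xor_eq_zero_iff.1 h0)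
      · obtain ⟨a, ha, e⟩ := X.z_surj x x.2
        exact ⟨⟨a, ha⟩, Subtype.ext e⟩
    rw [← Nat.card_eq_of_bijective _ hbij, Nat.card_fin]
  exact exists_complement_of_satPC X.σ X.surj 11 hker rfl (Lift.wf code_ok)
    sylow_card_index.1 sylow_card_index.2 hs hsat

end Cfsg.Agent.ExtCert
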