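import Cfsg.Agent.ExtCert.M23CodeData

set_option autoImplicit false

/-!
The kernel evaluation of the certificate.
-/

namespace Cfsg.Agent.ExtCert

open Cfsg.Agent.SchurCert (permMul permOne)

theorem code_ok : codeData.Q.ok = true := by decide +kernel

theorem code_group : codeData.groupPart.groupOK permMul permOne = true := by decide +kernel

theorem code_rows : codeData.rowsOK permMul permOne = true := by decide +kernel

theorem code_lin : codeData.linOK = true := by decide +kernel

theorem code_check : codeData.check permMul permOne = true := by
  simp only [Data.check, code_ok, code_group, code_rows, code_lin, Bool.and_self]

end Cfsg.Agent.ExtCert
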